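import Mathlib
import Cfsg.Prelude.Def_Classification2
import Cfsg.Agent.SignalizersComponents.Components
import Cfsg.Agent.SignalizersComponents.EvenComponent
import Cfsg.Agent.BpLin.Quot

/-!
# The number of components of a group (helper65)

`nc C` : the number of components of `C`.
* `nc_congr`; `nc_sub_le` : subnormal subgroups; `nc_le_sub` : subgroups containing the perfect subgroups;
* `nc_le_of_central` : `C → D` onto with central kernel: `nc D ≤ nc C`;
* `nc_le_add` : `C ≤ D₁ × D₂` with surjective projections: `nc C ≤ nc D₁ + nc D₂`.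
-/

set_option autoImplicit false
set_option linter.unusedSectionVars false

open Cfsg Subgroup
open scoped commutatorElement

namespace Cfsg.Agent.H65.CN

open Cfsg.Agent.SignalizersComponents.Components

/-- the number of components -/
noncomputable def nc (C : Type*) [Group C] : ℕ∞ := {K : Subgroup C | IsComponent K}.encard

section

variable {C D : Type*} [Group C] [Group D]

theorem nc_le_of_inj (f : Subgroup C → Subgroup D) (hf : ∀ K, IsComponent K → IsComponent (f K))
    (hi : ∀ K L, IsComponent K → IsComponent L → f K = f L → K = L) : nc C ≤ nc D :=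
  Set.encard_le_encard_of_injOn (f := f) (fun K hK => hf K hK) (fun K hK L hL h => hi K L hK hL h)

theorem nc_le_of_equiv (e : C ≃* D) : nc C ≤ nc D :=
  nc_le_of_inj (fun K => K.map e.toMonoidHom) (fun _ hK => isComponent_map_equiv e hK)
    (fun _ _ _ _ h => Subgroup.map_injective e.injective h)

theorem nc_congr (e : C ≃* D) : nc C = nc D := le_antisymm (nc_le_of_equiv e) (nc_le_of_equiv e.symm)

theorem ncard_le [Finite C] {k : ℕ} (h : nc C ≤ k) : {K : Subgroup C | IsComponent K}.ncard ≤ k := by
  have h1 : ({K : Subgroup C | IsComponent K}.ncard : ℕ∞) ≤ k := (Set.ncard_le_encard _).trans h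
  exact_mod_cast h1

theorem nc_sub_le {M : Subgroup C} (hM : M.IsSubnormal) : nc M ≤ nc C :=
  nc_le_of_inj (fun K => K.map M.subtype) (fun _ hK => isComponent_map_subtype hM hK)
    (fun _ _ _ _ h => Subgroup.map_injective M.subtype_injective h)

theorem nc_le_sub {M : Subgroup C} (h : ∀ K : Subgroup C, IsComponent K → K ≤ M) : nc C ≤ nc M := by
  refine nc_le_of_inj (fun K => K.subgroupOf M) (fun K hK => isComponent_subgroupOf (h K hK) hK) ?_
  intro K L hK hL he
  have h1 := congrArg (fun X : Subgroup M => X.map M.subtype) he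
  simp only [subgroupOf_map_subtype] at h1
  rwa [inf_eq_left.2 (h K hK), inf_eq_left.2 (h L hL)] at h1

/-- a perfect subgroup lies in the kernel of a homomorphism to a solvable group -/
theorem map_eq_one {f : C →* D} (hD : Group.IsSolvable D) {K : Subgroup C} (hK : ⁅K, K⁆ = K) {x : C} (hx : x ∈ K) :
    f x = 1 := by
  have h1 : ⁅K.map f, K.map f⁆ = K.map f := by rw [← Subgroup.map_commutator, hK]
  have h2 : ∀ n, K.map f ≤ derivedSeries D n := by
    intro n
    induction n with
    | zero => exact le_top
    | succ n ih =>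
      rw [derivedSeries_succ]
      calc K.map f = ⁅K.map f, K.map f⁆ := h1.symm
        _ ≤ ⁅derivedSeries D n, derivedSeries D n⁆ := commutator_mono ih ih
  obtain ⟨n, hn⟩ := hD.solvable
  have h3 := h2 n (mem_map_of_mem f hx)
  rw [hn] at h3
  exact h3

theorem le_ker {f : C →* D} (hD : Group.IsSolvable D) {K : Subgroup C} (hK : ⁅K, K⁆ = K) : K ≤ f.ker :=
  fun _ hx => map_eq_one hD hK hx

theorem nc_le_of_normal {M : Subgroup C} [M.Normal] (hs : Group.IsSolvable (C ⧸ M)) : nc C ≤ nc M := by
  refine nc_le_sub fun K hK => ?_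
  have h1 := le_ker (f := QuotientGroup.mk' M) hs (component_commutator_self hK)
  rwa [QuotientGroup.ker_mk'] at h1

theorem nc_le_of_ker (f : C →* D) (hD : Group.IsSolvable D) : nc C ≤ nc f.ker :=
  nc_le_sub fun _ hK => le_ker hD (component_commutator_self hK)

/-- **Central quotients.** -/
theorem nc_le_of_central (f : C →* D) (hf : Function.Surjective f) (hk : f.ker ≤ center C) : nc D ≤ nc C := by
  have key : ∀ K : Subgroup D, IsComponent K → IsComponent ⁅K.comap f, K.comap f⁆ ∧
      (⁅K.comap f, K.comap f⁆ : Subgroup C).map f = K := by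
    intro K hK
    set P := K.comap f with hP
    set L : Subgroup C := ⁅P, P⁆ with hL
    have hLm : L.map f = K := by
      rw [hL, Subgroup.map_commutator, hP, Subgroup.map_comap_eq_self_of_surjective hf,
        component_commutator_self hK]
    have hLP : L ≤ P := Subgroup.commutator_le_self P
    -- every element of `P` is a central multiple of an element of `L`
    have hPL : ∀ x ∈ P, ∃ l ∈ L, ∃ z ∈ center C, x = l * z := by
      intro x hx
      have h1 : f x ∈ L.map f := by rw [hLm]; exact hx
      obtain ⟨l, hl, hlx⟩ := h1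
      refine ⟨l, hl, l⁻¹ * x, hk ?_, by group⟩
      rw [MonoidHom.mem_ker, map_mul, map_inv, hlx, inv_mul_cancel]
    have hperf : ⁅L, L⁆ = L := by
      apply le_antisymm (Subgroup.commutator_le_self L)
      conv_lhs => rw [hL]
      rw [commutator_le]
      intro x hx y hy
      obtain ⟨l, hl, z, hz, rfl⟩ := hPL x hx
      obtain ⟨m, hm, w, hw, rfl⟩ := hPL y hy
      have hz' := mem_center_iff.1 hz
      have hw' := mem_center_iff.1 hw
      have h1 : ⁅l * z, m * w⁆ = ⁅l, m⁆ := by
        rw [commutatorElement_def, commutatorElement_def]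
        have h2 : l * z * (m * w) * (l * z)⁻¹ * (m * w)⁻¹ = l * (z * m) * w * (z⁻¹ * l⁻¹) * (w⁻¹ * m⁻¹) := by group
        rw [h2, ← hz' m]
        have h3 : l * (m * z) * w * (z⁻¹ * l⁻¹) * (w⁻¹ * m⁻¹) = l * m * (z * w) * z⁻¹ * (l⁻¹ * w⁻¹) * m⁻¹ := by group
        have h4 : l⁻¹ * w⁻¹ = w⁻¹ * l⁻¹ := mem_center_iff.1 ((center C).inv_mem hw) l⁻¹
        rw [h3, hw' z, h4]
        group
      rw [h1]
      exact commutator_mem_commutator hl hm
    have hsub : L.IsSubnormal := by
      have h1 : P.IsSubnormal := hK.1.comap f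
      refine Subgroup.IsSubnormal.step L P hLP h1 ?_
      have h2 : L.subgroupOf P = commutator P := by
        apply Subgroup.map_injective P.subtype_injective
        rw [subgroupOf_map_subtype, inf_eq_left.2 hLP, _root_.commutator_def, Subgroup.map_commutator,
          ← MonoidHom.range_eq_map, P.range_subtype]
      rw [h2]
      infer_instance
    refine ⟨⟨hsub, ?_⟩, hLm⟩
    let g : ↥L →* ↥K := (f.comp L.subtype).codRestrict K (fun l => by
      have h1 : f l ∈ L.map f := mem_map_of_mem f l.2
      rwa [hLm] at h1)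
    have hg : Function.Surjective g := by
      intro k
      have h1 : (k : D) ∈ L.map f := by rw [hLm]; exact k.2
      obtain ⟨l, hl, hlk⟩ := h1
      exact ⟨⟨l, hl⟩, Subtype.ext hlk⟩
    refine BpLin.quasisimple_of_surjective_central hg ?_ (Subgroup.isPerfect_iff.mpr hperf) hK.2
    intro x hx
    have h1 : (x : C) ∈ center C := by
      apply hk
      rw [MonoidHom.mem_ker]
      exact congrArg Subtype.val (MonoidHom.mem_ker.1 hx)
    rw [mem_center_iff]
    intro y
    exact Subtype.ext (mem_center_iff.1 h1 y)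
  refine nc_le_of_inj (fun K => ⁅K.comap f, K.comap f⁆) (fun K hK => (key K hK).1) ?_
  intro K L hK hL h
  have h1 := (key K hK).2
  have h' : ⁅K.comap f, K.comap f⁆ = ⁅L.comap f, L.comap f⁆ := h
  rw [h', (key L hL).2] at h1
  exact h1.symm

/-- the image of a component is trivial or a component -/
theorem isComponent_map (f : C →* D) (hf : Function.Surjective f) {K : Subgroup C} (hK : IsComponent K)
    (hne : K.map f ≠ ⊥) : IsComponent (K.map f) := by
  refine ⟨hK.1.map hf, ?_⟩
  refine SignalizersComponents.EvenComponent.isQuasisimple_of_surjective (f.subgroupMap K)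
    (f.subgroupMap_surjective K) hK.2 ?_
  rcases quasisimple_normal hK.2 (f.subgroupMap K).ker inferInstance with h | h
  · exfalso
    apply hne
    rw [eq_bot_iff]
    rintro _ ⟨x, hx, rfl⟩
    have h1 : (⟨x, hx⟩ : ↥K) ∈ (f.subgroupMap K).ker := by rw [h]; exact mem_top _
    have h2 := congrArg Subtype.val (MonoidHom.mem_ker.1 h1)
    exact h2
  · exact h

theorem encard_map_le (f : C →* D) (hf : Function.Surjective f) :
    {K : Subgroup C | IsComponent K ∧ K.map f ≠ ⊥}.encard ≤ nc D := by
  refine Set.encard_le_encard_of_injOn (f := fun K => K.map f) (fun K hK => isComponent_map f hf hK.1 hK.2) ?_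
  intro K hK L hL h
  by_contra hne
  have h1 := component_commutator_eq_bot_of_ne hK.1 hL.1 hne
  have h2 : ⁅K.map f, L.map f⁆ = ⊥ := by rw [← Subgroup.map_commutator, h1, Subgroup.map_bot]
  have h' : K.map f = L.map f := h
  rw [← h', component_commutator_self (isComponent_map f hf hK.1 hK.2)] at h2
  exact hK.2 h2

/-- **Subdirect products.** -/
theorem nc_le_add {E : Type*} [Group E] (f : C →* D) (g : C →* E) (hf : Function.Surjective f)
    (hg : Function.Surjective g) (h : ∀ x, f x = 1 → g x = 1 → x = 1) : nc C ≤ nc D + nc E := by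
  have h1 : {K : Subgroup C | IsComponent K} ⊆
      {K : Subgroup C | IsComponent K ∧ K.map f ≠ ⊥} ∪ {K : Subgroup C | IsComponent K ∧ K.map g ≠ ⊥} := by
    intro K hK
    by_contra hcon
    rw [Set.mem_union, not_or, Set.mem_ofPred_eq, Set.mem_ofPred_eq, not_and_not_right, not_and_not_right] at hcon
    have h1 := hcon.1 hK
    have h2 := hcon.2 hK
    apply component_ne_bot hK
    rw [eq_bot_iff]
    intro x hx
    rw [mem_bot]
    apply h
    · have h3 : f x ∈ K.map f := mem_map_of_mem f hx
      rwa [h1, mem_bot] at h3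
    · have h3 : g x ∈ K.map g := mem_map_of_mem g hx
      rwa [h2, mem_bot] at h3
  exact (Set.encard_le_encard h1).trans ((Set.encard_union_le _ _).trans
    (add_le_add (encard_map_le f hf) (encard_map_le g hg)))

/-- an injective homomorphism onto -/
theorem nc_le_of_bij (f : C →* D) (hf : Function.Injective f) (hs : Function.Surjective f) : nc C ≤ nc D :=
  nc_le_of_equiv (MulEquiv.ofBijective f ⟨hf, hs⟩)

/-- a normal quasisimple subgroup with solvable quotient -/
theorem nc_le_one {K : Subgroup C} [K.Normal] (hq : IsQuasisimple ↥K) (hs : Group.IsSolvable (C ⧸ K)) :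
    nc C ≤ 1 := by
  have hK : IsComponent K := ⟨Subgroup.Normal.isSubnormal inferInstance, hq⟩
  rw [nc, Set.encard_le_one_iff]
  have key : ∀ L : Subgroup C, IsComponent L → L = K := by
    intro L hL
    by_contra hne
    have h1 := component_commutator_eq_bot_of_ne hL hK hne
    have h2 : L ≤ K := by
      have h1 := le_ker (f := QuotientGroup.mk' K) hs (component_commutator_self hL)
      rwa [QuotientGroup.ker_mk'] at h1
    have h3 : ⁅L, L⁆ ≤ ⁅L, K⁆ := commutator_mono le_rfl h2
    rw [h1, component_commutator_self hL, le_bot_iff] at h3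
    exact component_ne_bot hL h3
  intro L M hL hM
  rw [key L hL, key M hM]

end

/-- **Reduction.** `π : X → G` onto with central kernel, `t = π T`, `t² = 1`, `X ≤ I` normal: the centraliser of `t`
has at most as many components as `C_I(T)`. -/
theorem nc_centralizer_le {I G : Type*} [Group I] [Group G] {X : Subgroup I} [X.Normal] (π : ↥X →* G)
    (hπ : Function.Surjective π) (hk : π.ker ≤ center ↥X) (T : ↥X) :
    nc ↥(centralizer ({π T} : Set G)) ≤ nc ↥(centralizer ({(T : I)} : Set I)) := by
  set C := centralizer ({π T} : Set G) with hC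
  -- the preimage
  have h1 : nc ↥C ≤ nc ↥(C.comap π) := by
    refine nc_le_of_central (π.subgroupComap C) (MonoidHom.subgroupComap_surjective_of_surjective π C hπ) ?_
    intro x hx
    have h2 : (x : ↥X) ∈ center ↥X := by
      apply hk
      rw [MonoidHom.mem_ker]
      exact congrArg Subtype.val (MonoidHom.mem_ker.1 hx)
    rw [mem_center_iff]
    intro y
    exact Subtype.ext (mem_center_iff.1 h2 y)
  -- the centraliser of `T` in `X`
  have hcen : ∀ x ∈ C.comap π, x * T * x⁻¹ * T⁻¹ ∈ center ↥X := by
    intro x hx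
    apply hk
    have h2 := mem_centralizer_singleton_iff.1 (mem_comap.1 hx)
    rw [MonoidHom.mem_ker, map_mul, map_mul, map_mul, map_inv, map_inv, h2, mul_inv_cancel_right, mul_inv_cancel]
  let φ : ↥(C.comap π) →* ↥(center ↥X) :=
    { toFun := fun x => ⟨x * T * (x : ↥X)⁻¹ * T⁻¹, hcen x x.2⟩
      map_one' := by
        apply Subtype.ext
        simp
      map_mul' := by
        intro x y
        apply Subtype.ext
        have h2 := mem_center_iff.1 (hcen y y.2) (x : ↥X)
        change (x : ↥X) * y * T * ((x : ↥X) * y)⁻¹ * T⁻¹ =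
          ((x : ↥X) * T * (x : ↥X)⁻¹ * T⁻¹) * ((y : ↥X) * T * (y : ↥X)⁻¹ * T⁻¹)
        have h3 := mem_center_iff.1 (hcen y y.2) ((x : ↥X) * T * (x : ↥X)⁻¹ * T⁻¹)
        rw [h3]
        calc (x : ↥X) * y * T * ((x : ↥X) * y)⁻¹ * T⁻¹
            = (x : ↥X) * ((y : ↥X) * T * (y : ↥X)⁻¹ * T⁻¹) * T * (x : ↥X)⁻¹ * T⁻¹ := by group
          _ = ((y : ↥X) * T * (y : ↥X)⁻¹ * T⁻¹) * (x : ↥X) * T * (x : ↥X)⁻¹ * T⁻¹ := by rw [h2]
          _ = _ := by group }
  have h2 : nc ↥(C.comap π) ≤ nc ↥φ.ker := nc_le_of_ker φ (Group.isSolvable_of_comm fun a b => Subtype.ext (mem_center_iff.1 b.2 a))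
  -- `φ.ker` as a normal subgroup of `C_I(T)`
  have h3 : nc ↥φ.ker ≤ nc ↥(X.subgroupOf (centralizer ({(T : I)} : Set I))) := by
    refine nc_le_of_equiv ?_
    exact
      { toFun := fun x => ⟨⟨((x : ↥(C.comap π)) : ↥X), by
            rw [mem_centralizer_singleton_iff]
            have h4 := congrArg Subtype.val (MonoidHom.mem_ker.1 x.2)
            change ((x : ↥(C.comap π)) : ↥X) * T * ((x : ↥(C.comap π)) : ↥X)⁻¹ * T⁻¹ = 1 at h4
            rw [mul_inv_eq_one, mul_inv_eq_iff_eq_mul] at h4
            exact congrArg Subtype.val h4⟩, mem_subgroupOf.2 ((x : ↥(C.comap π)) : ↥X).2⟩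
        invFun := fun y => ⟨⟨⟨((y : ↥(centralizer ({(T : I)} : Set I))) : I), mem_subgroupOf.1 y.2⟩, by
            rw [mem_comap, mem_centralizer_singleton_iff, ← map_mul, ← map_mul]
            exact congrArg π (Subtype.ext (mem_centralizer_singleton_iff.1 y.1.2))⟩, by
            rw [MonoidHom.mem_ker]
            apply Subtype.ext
            have h4 : (⟨((y : ↥(centralizer ({(T : I)} : Set I))) : I), mem_subgroupOf.1 y.2⟩ : ↥X) * T =
              T * ⟨((y : ↥(centralizer ({(T : I)} : Set I))) : I), mem_subgroupOf.1 y.2⟩ :=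
              Subtype.ext (mem_centralizer_singleton_iff.1 y.1.2)
            change (⟨((y : ↥(centralizer ({(T : I)} : Set I))) : I), mem_subgroupOf.1 y.2⟩ : ↥X) * T *
              (⟨((y : ↥(centralizer ({(T : I)} : Set I))) : I), mem_subgroupOf.1 y.2⟩ : ↥X)⁻¹ * T⁻¹ = 1
            rw [h4, mul_inv_cancel_right, mul_inv_cancel]⟩
        left_inv := fun _ => rfl
        right_inv := fun _ => rfl
        map_mul' := fun _ _ => rfl }
  exact h1.trans (h2.trans (h3.trans (nc_sub_le (Subgroup.Normal.isSubnormal inferInstance))))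

end Cfsg.Agent.H65.CN
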