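import Mathlib

/-!
# Commuting perfect linear groups (helper65)

`two_mul_card_le` : `m` pairwise commuting nontrivial images of perfect groups in `GL(V)`, `V` over an algebraically
closed field: `2 m ≤ dim V`.
-/

set_option autoImplicit false
set_option linter.unusedSectionVars false

open Module

namespace Cfsg.Agent.H65.CN.Rep

universe u v w

section

variable {K : Type u} [Field K] {A : Type w} [Group A] {V : Type v} [AddCommGroup V] [Module K V]

/-- a commutative image of a perfect group is trivial -/
theorem eq_one_of_comm {M : Type*} [Monoid M] (hA : commutator A = ⊤) (ρ : A →* M)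
    (h : ∀ a b, ρ a * ρ b = ρ b * ρ a) (a : A) : ρ a = 1 := by
  have h1 : commutator A ≤ ρ.ker := by
    rw [commutator_def, Subgroup.commutator_le]
    intro a _ b _
    rw [MonoidHom.mem_ker, commutatorElement_def, map_mul, map_mul, map_mul, h a b, mul_assoc (ρ b), ← map_mul ρ a,
      mul_inv_cancel, map_one, mul_one, ← map_mul, mul_inv_cancel, map_one]
  rw [hA] at h1
  exact h1 (Subgroup.mem_top a)

/-- `U` is invariant -/
def Inv (ρ : A →* Module.End K V) (U : Submodule K V) : Prop := ∀ a, ∀ u ∈ U, ρ a u ∈ U

open Classical in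
/-- the restriction to an invariant subspace -/
noncomputable def res (ρ : A →* Module.End K V) (U : Submodule K V) : A →* Module.End K U :=
  if h : Inv ρ U then
    { toFun := fun a => (ρ a).restrict (h a)
      map_one' := by
        ext u
        rw [LinearMap.coe_restrict_apply, map_one]
        rfl
      map_mul' := by
        intro a b
        ext u
        rw [LinearMap.coe_restrict_apply, map_mul]
        rfl }
  else 1

theorem res_apply {ρ : A →* Module.End K V} {U : Submodule K V} (h : Inv ρ U) (a : A) (u : U) :
    ((res ρ U a u : U) : V) = ρ a u := by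
  unfold res
  rw [dif_pos h]
  rfl

open Classical in
/-- the action on the quotient -/
noncomputable def quo (ρ : A →* Module.End K V) (U : Submodule K V) : A →* Module.End K (V ⧸ U) :=
  if h : Inv ρ U then
    { toFun := fun a => U.mapQ U (ρ a) (h a)
      map_one' := by
        ext u
        simp
      map_mul' := by
        intro a b
        ext u
        simp }
  else 1

theorem quo_apply {ρ : A →* Module.End K V} {U : Submodule K V} (h : Inv ρ U) (a : A) (v : V) :
    quo ρ U a (Submodule.Quotient.mk v) = Submodule.Quotient.mk (ρ a v) := by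
  unfold quo
  rw [dif_pos h]
  rfl

/-- trivial on `U` and `V / U` -/
theorem eq_one_of_res_quo (hA : commutator A = ⊤) {ρ : A →* Module.End K V} {U : Submodule K V} (h : Inv ρ U)
    (h1 : ∀ a, res ρ U a = 1) (h2 : ∀ a, quo ρ U a = 1) (a : A) : ρ a = 1 := by
  have h1' : ∀ a, ∀ u ∈ U, ρ a u = u := by
    intro a u hu
    rw [← res_apply h a ⟨u, hu⟩, h1 a]
    rfl
  have h2' : ∀ a v, ρ a v - v ∈ U := by
    intro a v
    rw [← Submodule.Quotient.eq, ← quo_apply h, h2 a]
    rfl
  refine eq_one_of_comm hA ρ (fun a b => ?_) a
  ext v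
  change ρ a (ρ b v) = ρ b (ρ a v)
  have h3 := h1' a _ (h2' b v)
  have h4 := h1' b _ (h2' a v)
  rw [map_sub] at h3 h4
  have h5 : ρ a (ρ b v) = ρ b v - v + ρ a v := by rw [← h3]; abel
  have h6 : ρ b (ρ a v) = ρ a v - v + ρ b v := by rw [← h4]; abel
  rw [h5, h6]
  abel

theorem comm_of_finrank [FiniteDimensional K V] (h : finrank K V ≤ 1) (f g : Module.End K V) : f * g = g * f := by
  rcases Nat.lt_or_ge (finrank K V) 1 with h0 | h1
  · have h0' : finrank K V = 0 := by omega
    have : Subsingleton V := finrank_zero_iff.1 h0'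
    exact Subsingleton.elim _ _
  · have h1' : finrank K V = 1 := by omega
    obtain ⟨v, -, hv⟩ := finrank_eq_one_iff'.1 h1'
    obtain ⟨a, ha⟩ := hv (f v)
    obtain ⟨b, hb⟩ := hv (g v)
    ext w
    obtain ⟨c, rfl⟩ := hv w
    change f (g (c • v)) = g (f (c • v))
    rw [map_smul, map_smul, map_smul, map_smul, ← ha, ← hb, map_smul, map_smul, ← ha, ← hb, smul_comm a b]

end

section

variable {K : Type u} [Field K] [IsAlgClosed K] {ι : Type*} [DecidableEq ι] {A : ι → Type w} [∀ i, Group (A i)]

theorem aux (hA : ∀ i, commutator (A i) = ⊤) : ∀ (n : ℕ) (V : Type v) [AddCommGroup V] [Module K V]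
    [FiniteDimensional K V], finrank K V = n → ∀ (ρ : ∀ i, A i →* Module.End K V) (s : Finset ι),
    (∀ i ∈ s, ∀ j ∈ s, i ≠ j → ∀ a b, ρ i a * ρ j b = ρ j b * ρ i a) → (∀ i ∈ s, ∃ a, ρ i a ≠ 1) →
    2 * s.card ≤ n := by
  intro n
  induction n using Nat.strong_induction_on with
  | _ n ih =>
  intro V _ _ _ hn ρ s hcomm hne
  classical
  rcases Nat.eq_zero_or_pos s.card with h0 | h0
  · omega
  obtain ⟨i0, hi0⟩ := Finset.card_pos.1 h0
  have hn2 : 2 ≤ n := by
    by_contra hlt
    obtain ⟨a, ha⟩ := hne i0 hi0
    exact ha (eq_one_of_comm (hA i0) (ρ i0) (fun a b => comm_of_finrank (by omega) _ _) a)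
  rcases Nat.lt_or_ge s.card 2 with h1 | h2
  · omega
  by_cases hred : ∃ U : Submodule K V, U ≠ ⊥ ∧ U ≠ ⊤ ∧ ∀ i ∈ s, Inv (ρ i) U
  · -- a common invariant subspace
    obtain ⟨U, hU0, hU1, hU⟩ := hred
    have hlt1 : finrank K U < n := by rw [← hn]; exact Submodule.finrank_lt hU1
    have hsum : finrank K (V ⧸ U) + finrank K U = n := by rw [← hn]; exact Submodule.finrank_quotient_add_finrank U
    have hpos : 0 < finrank K U := by
      rw [Nat.pos_iff_ne_zero]
      intro h
      exact hU0 (Submodule.finrank_eq_zero.1 h)
    set s1 := s.filter (fun i => ∃ a, res (ρ i) U a ≠ 1) with hs1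
    set s2 := s.filter (fun i => ∃ a, quo (ρ i) U a ≠ 1) with hs2
    have e1 := ih (finrank K U) hlt1 U rfl (fun i => res (ρ i) U) s1 (by
      intro i hi j hj hij a b
      have hi' := (Finset.mem_filter.1 hi).1
      have hj' := (Finset.mem_filter.1 hj).1
      ext u
      change ((res (ρ i) U a (res (ρ j) U b u) : U) : V) = ((res (ρ j) U b (res (ρ i) U a u) : U) : V)
      rw [res_apply (hU i hi'), res_apply (hU j hj'), res_apply (hU j hj'), res_apply (hU i hi')]
      exact congrArg (fun f : Module.End K V => f u) (hcomm i hi' j hj' hij a b)) (by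
      intro i hi
      exact (Finset.mem_filter.1 hi).2)
    have e2 := ih (finrank K (V ⧸ U)) (by omega) (V ⧸ U) rfl (fun i => quo (ρ i) U) s2 (by
      intro i hi j hj hij a b
      have hi' := (Finset.mem_filter.1 hi).1
      have hj' := (Finset.mem_filter.1 hj).1
      apply LinearMap.ext
      intro x
      obtain ⟨v, rfl⟩ := Submodule.Quotient.mk_surjective U x
      change quo (ρ i) U a (quo (ρ j) U b _) = quo (ρ j) U b (quo (ρ i) U a _)
      rw [quo_apply (hU i hi'), quo_apply (hU j hj'), quo_apply (hU j hj'), quo_apply (hU i hi')]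
      exact congrArg (fun f : Module.End K V => (Submodule.Quotient.mk (f v) : V ⧸ U)) (hcomm i hi' j hj' hij a b)) (by
      intro i hi
      exact (Finset.mem_filter.1 hi).2)
    have e3 : s ⊆ s1 ∪ s2 := by
      intro i hi
      by_contra hcon
      rw [Finset.mem_union, not_or, hs1, hs2, Finset.mem_filter, Finset.mem_filter] at hcon
      have h3 : ∀ a, res (ρ i) U a = 1 := by
        intro a
        by_contra h
        exact hcon.1 ⟨hi, a, h⟩
      have h4 : ∀ a, quo (ρ i) U a = 1 := by
        intro a
        by_contra h
        exact hcon.2 ⟨hi, a, h⟩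
      obtain ⟨a, ha⟩ := hne i hi
      exact ha (eq_one_of_res_quo (hA i) (hU i hi) h3 h4 a)
    have e4 := (Finset.card_le_card e3).trans (Finset.card_union_le s1 s2)
    omega
  · -- irreducible
    have hirr : ∀ U : Submodule K V, (∀ i ∈ s, Inv (ρ i) U) → U ≠ ⊥ → U = ⊤ := by
      intro U hU h
      by_contra h'
      exact hred ⟨U, h, h', hU⟩
    have : Nontrivial V := nontrivial_of_finrank_pos (R := K) (by omega)
    have hns : ∃ a, ∀ c : K, ρ i0 a ≠ algebraMap K (Module.End K V) c := by
      by_contra hcon
      push Not at hcon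
      obtain ⟨a, ha⟩ := hne i0 hi0
      apply ha
      refine eq_one_of_comm (hA i0) (ρ i0) (fun a b => ?_) a
      obtain ⟨c, hc⟩ := hcon a
      rw [hc]
      exact Algebra.commutes c _
    obtain ⟨a0, ha0⟩ := hns
    obtain ⟨c, hc⟩ := Module.End.exists_eigenvalue (ρ i0 a0)
    set U := Module.End.eigenspace (ρ i0 a0) c with hU
    have hmem : ∀ v, v ∈ U ↔ ρ i0 a0 v = c • v := fun v => Module.End.mem_eigenspace_iff
    have hU0 : U ≠ ⊥ := hc
    have hU1 : U ≠ ⊤ := by
      intro h
      apply ha0 c
      ext v
      have h3 : v ∈ U := by rw [h]; exact Submodule.mem_top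
      exact (hmem v).1 h3
    have hinv : ∀ i ∈ s.erase i0, Inv (ρ i) U := by
      intro i hi a u hu
      rw [Finset.mem_erase] at hi
      rw [hmem] at hu ⊢
      have h3 := congrArg (fun f : Module.End K V => f u) (hcomm i0 hi0 i hi.2 (Ne.symm hi.1) a0 a)
      change ρ i0 a0 (ρ i a u) = ρ i a (ρ i0 a0 u) at h3
      rw [h3, hu, map_smul]
    have hlt1 : finrank K U < n := by rw [← hn]; exact Submodule.finrank_lt hU1
    have hsum : finrank K (V ⧸ U) + finrank K U = n := by rw [← hn]; exact Submodule.finrank_quotient_add_finrank U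
    have hpos : 0 < finrank K U := by
      rw [Nat.pos_iff_ne_zero]
      intro h
      exact hU0 (Submodule.finrank_eq_zero.1 h)
    have e1 := ih (finrank K U) hlt1 U rfl (fun i => res (ρ i) U) (s.erase i0) (by
      intro i hi j hj hij a b
      have hi' := (Finset.mem_erase.1 hi).2
      have hj' := (Finset.mem_erase.1 hj).2
      ext u
      change ((res (ρ i) U a (res (ρ j) U b u) : U) : V) = ((res (ρ j) U b (res (ρ i) U a u) : U) : V)
      rw [res_apply (hinv i hi), res_apply (hinv j hj), res_apply (hinv j hj), res_apply (hinv i hi)]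
      exact congrArg (fun f : Module.End K V => f u) (hcomm i hi' j hj' hij a b)) (by
      intro i hi
      have hi' := (Finset.mem_erase.1 hi).2
      by_contra hcon
      push Not at hcon
      -- the fixed space
      let W : Submodule K V := ⨅ a, LinearMap.ker (ρ i a - 1)
      have hW : ∀ v, v ∈ W ↔ ∀ a, ρ i a v = v := by
        intro v
        simp only [W, Submodule.mem_iInf, LinearMap.mem_ker, LinearMap.sub_apply, Module.End.one_apply, sub_eq_zero]
      have h4 : W = ⊤ := by
        apply hirr W
        · intro j hj b v hv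
          rw [hW] at hv ⊢
          intro a
          by_cases hij : i = j
          · subst hij
            rw [hv b, hv a]
          · have h3 := congrArg (fun f : Module.End K V => f v) (hcomm i hi' j hj hij a b)
            change ρ i a (ρ j b v) = ρ j b (ρ i a v) at h3
            rw [h3, hv a]
        · intro h
          apply hU0
          rw [eq_bot_iff, ← h]
          intro u hu
          rw [hW]
          intro a
          rw [← res_apply (hinv i hi) a ⟨u, hu⟩, hcon a]
          rfl
      obtain ⟨a, ha⟩ := hne i hi'
      apply ha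
      ext v
      have h5 : v ∈ W := by rw [h4]; exact Submodule.mem_top
      exact (hW v).1 h5 a)
    have e2 := ih (finrank K (V ⧸ U)) (by omega) (V ⧸ U) rfl (fun i => quo (ρ i) U) (s.erase i0) (by
      intro i hi j hj hij a b
      have hi' := (Finset.mem_erase.1 hi).2
      have hj' := (Finset.mem_erase.1 hj).2
      apply LinearMap.ext
      intro x
      obtain ⟨v, rfl⟩ := Submodule.Quotient.mk_surjective U x
      change quo (ρ i) U a (quo (ρ j) U b _) = quo (ρ j) U b (quo (ρ i) U a _)
      rw [quo_apply (hinv i hi), quo_apply (hinv j hj), quo_apply (hinv j hj), quo_apply (hinv i hi)]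
      exact congrArg (fun f : Module.End K V => (Submodule.Quotient.mk (f v) : V ⧸ U)) (hcomm i hi' j hj' hij a b)) (by
      intro i hi
      have hi' := (Finset.mem_erase.1 hi).2
      by_contra hcon
      push Not at hcon
      -- the commutator space
      let W : Submodule K V := ⨆ a, LinearMap.range (ρ i a - 1)
      have hWm : ∀ a v, ρ i a v - v ∈ W := fun a v =>
        Submodule.mem_iSup_of_mem a ⟨v, rfl⟩
      have hWU : W ≤ U := by
        apply iSup_le
        rintro a _ ⟨v, rfl⟩
        change ρ i a v - v ∈ U
        rw [← Submodule.Quotient.eq, ← quo_apply (hinv i hi), hcon a]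
        rfl
      have h4 : W = ⊥ := by
        by_contra hW0
        have h5 := hirr W (by
          intro j hj b
          have h6 : W ≤ W.comap (ρ j b) := by
            apply iSup_le
            rintro a _ ⟨v, rfl⟩
            rw [Submodule.mem_comap]
            change ρ j b (ρ i a v - v) ∈ W
            rw [map_sub]
            by_cases hij : i = j
            · subst hij
              have h7 : ρ i b (ρ i a v) = ρ i (b * a) v := by rw [map_mul]; rfl
              rw [h7]
              have h8 := W.sub_mem (hWm (b * a) v) (hWm b v)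
              rwa [sub_sub_sub_cancel_right] at h8
            · have h3 := congrArg (fun f : Module.End K V => f v) (hcomm i hi' j hj hij a b)
              change ρ i a (ρ j b v) = ρ j b (ρ i a v) at h3
              rw [← h3]
              exact hWm a _
          exact fun u hu => h6 hu) hW0
        rw [h5] at hWU
        exact hU1 (top_le_iff.1 hWU)
      obtain ⟨a, ha⟩ := hne i hi'
      apply ha
      ext v
      have h5 := hWm a v
      rw [h4, Submodule.mem_bot, sub_eq_zero] at h5
      exact h5)
    have e5 := Finset.card_erase_of_mem hi0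
    omega

end

end Cfsg.Agent.H65.CN.Rep
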