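import Mathlib
import Cfsg.Agent.H65.CN.Grp
import Cfsg.Agent.H65.CN.Rep

/-!
# Linear groups of small dimension have few components (helper65)
-/

set_option autoImplicit false
set_option linter.unusedSectionVars false

open Cfsg Subgroup Module

namespace Cfsg.Agent.H65.CN

open Cfsg.Agent.SignalizersComponents.Components

/-- a linear group of dimension at most `2 k + 1` has at most `k` components -/
theorem nc_le_of_finrank {H : Type*} [Group H] {F : Type*} [Field F] {V : Type*} [AddCommGroup V] [Module F V]
    [FiniteDimensional F V] (τ : H →* Module.End F V) (hτ : Function.Injective τ) {k : ℕ}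
    (hk : finrank F V ≤ 2 * k + 1) : nc H ≤ k := by
  classical
  by_contra hcon
  rw [not_le] at hcon
  have h1 : ((k + 1 : ℕ) : ℕ∞) ≤ {K : Subgroup H | IsComponent K}.encard := by
    rw [Nat.cast_add, Nat.cast_one]
    exact Order.add_one_le_of_lt hcon
  obtain ⟨t, ht, htc⟩ := Set.exists_subset_encard_eq h1
  have htf : t.Finite := Set.finite_of_encard_eq_coe htc
  let ι := {K : Subgroup H // IsComponent K}
  let s : Finset ι := htf.toFinset.subtype _
  have hs : s.card = k + 1 := by
    have h2 : (htf.toFinset.filter (fun K : Subgroup H => IsComponent K)) = htf.toFinset := by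
      apply Finset.filter_true_of_mem
      intro K hK
      exact ht (htf.mem_toFinset.1 hK)
    rw [Finset.card_subtype, h2]
    have h3 := htf.encard_eq_coe_toFinset_card
    rw [htc] at h3
    exact_mod_cast h3.symm
  let n := finrank F V
  let E := AlgebraicClosure F
  let b := finBasis F V
  let σ : H →* Module.End E (Fin n → E) :=
    (Matrix.toLinAlgEquiv' (R := E) (n := Fin n)).toRingEquiv.toMonoidHom.comp
      (((algebraMap F E).mapMatrix (m := Fin n)).toMonoidHom.comp
        ((LinearMap.toMatrixAlgEquiv b).toRingEquiv.toMonoidHom.comp τ))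
  have hσ : Function.Injective σ := by
    have h1 : Function.Injective ((algebraMap F E).mapMatrix (m := Fin n)) := by
      intro M N h
      ext i j
      exact (algebraMap F E).injective (congrArg (fun X : Matrix (Fin n) (Fin n) E => X i j) h)
    exact (Matrix.toLinAlgEquiv' (R := E) (n := Fin n)).injective.comp
      (h1.comp ((LinearMap.toMatrixAlgEquiv b).injective.comp hτ))
  have h2 := Rep.aux (K := E) (ι := ι) (A := fun K => ↥(K : Subgroup H))
    (fun K => Group.isPerfect_def.1 (K.2.2.1)) n (Fin n → E) (by rw [finrank_fintype_fun_eq_card, Fintype.card_fin])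
    (fun K => σ.comp (K : Subgroup H).subtype) s (by
      intro K _ L _ hKL a c
      have h3 := component_commutator_eq_bot_of_ne K.2 L.2 (fun h => hKL (Subtype.ext h))
      rw [commutator_eq_bot_iff_le_centralizer] at h3
      have h4 := mem_centralizer_iff.1 (h3 a.2) c c.2
      change σ a * σ c = σ c * σ a
      rw [← map_mul, ← map_mul, h4]) (by
      intro K _
      have := quasisimple_nontrivial K.2.2
      obtain ⟨a, ha⟩ := exists_ne (1 : ↥(K : Subgroup H))
      refine ⟨a, fun h => ha ?_⟩
      apply Subtype.ext
      apply hσ
      rw [Subgroup.coe_one, map_one]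
      exact h)
  have h3 : n ≤ 2 * k + 1 := hk
  omega

end Cfsg.Agent.H65.CN
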