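import Mathlib
import Cfsg.Agent.H65.CN.Small

/-!
# Linear maps with scalar square: the split cases (helper65)

`T² = a²`: the eigenspaces `V₁`, `V₂` of `T`.
* `gl_split` : the centraliser in `GL(V)`;
* `is_split` : the centraliser in the isometry group, `σ(a) a = 1`;
* `is_isot` : the centraliser in the isometry group, `σ(a) a = -1`.
-/

set_option autoImplicit false
set_option linter.unusedSectionVars false

open Cfsg Subgroup Module

namespace Cfsg.Agent.H65.CN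

section

variable {F V : Type*} [Field F] [AddCommGroup V] [Module F V]

/-! ### Restriction and glueing -/

/-- restriction to an invariant subspace -/
def rs (N : Subgroup (V ≃ₗ[F] V)) (U : Submodule F V) (hN : ∀ g ∈ N, ∀ u ∈ U, g u ∈ U) :
    ↥N →* (U ≃ₗ[F] U) where
  toFun g := LinearEquiv.ofLinearMap (((g : V ≃ₗ[F] V) : V →ₗ[F] V).restrict (hN g g.2))
    ((((g : V ≃ₗ[F] V)⁻¹ : V ≃ₗ[F] V) : V →ₗ[F] V).restrict (hN _ (N.inv_mem g.2)))
    (by
      ext u
      change (g : V ≃ₗ[F] V) ((g : V ≃ₗ[F] V)⁻¹ u) = u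
      exact LinearEquiv.apply_symm_apply _ _)
    (by
      ext u
      change (g : V ≃ₗ[F] V)⁻¹ ((g : V ≃ₗ[F] V) u) = u
      exact LinearEquiv.symm_apply_apply _ _)
  map_one' := by
    ext u
    rfl
  map_mul' g h := by
    ext u
    rfl

theorem rs_apply {N : Subgroup (V ≃ₗ[F] V)} {U : Submodule F V} (hN : ∀ g ∈ N, ∀ u ∈ U, g u ∈ U) (g : ↥N)
    (u : U) : ((rs N U hN g u : U) : V) = (g : V ≃ₗ[F] V) u := rfl

variable {V1 V2 : Submodule F V}

/-- glueing -/
noncomputable def glue (h : IsCompl V1 V2) (g1 : V1 ≃ₗ[F] V1) (g2 : V2 ≃ₗ[F] V2) : V ≃ₗ[F] V :=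
  (Submodule.prodEquivOfIsCompl V1 V2 h).symm.trans
    ((g1.prodCongr g2).trans (Submodule.prodEquivOfIsCompl V1 V2 h))

theorem glue_add (h : IsCompl V1 V2) (g1 : V1 ≃ₗ[F] V1) (g2 : V2 ≃ₗ[F] V2) (x : V1) (y : V2) :
    glue h g1 g2 ((x : V) + y) = g1 x + g2 y := by
  have h1 : (Submodule.prodEquivOfIsCompl V1 V2 h) (x, y) = (x : V) + y :=
    Submodule.coe_prodEquivOfIsCompl' _ _ _ _
  unfold glue
  rw [LinearEquiv.trans_apply, LinearEquiv.trans_apply, ← h1, LinearEquiv.symm_apply_apply]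
  exact Submodule.coe_prodEquivOfIsCompl' _ _ _ _

theorem glue_left (h : IsCompl V1 V2) (g1 : V1 ≃ₗ[F] V1) (g2 : V2 ≃ₗ[F] V2) (x : V1) :
    glue h g1 g2 (x : V) = g1 x := by
  have h1 := glue_add h g1 g2 x 0
  rwa [Submodule.coe_zero, add_zero, map_zero, Submodule.coe_zero, add_zero] at h1

theorem glue_right (h : IsCompl V1 V2) (g1 : V1 ≃ₗ[F] V1) (g2 : V2 ≃ₗ[F] V2) (y : V2) :
    glue h g1 g2 (y : V) = g2 y := by
  have h1 := glue_add h g1 g2 0 y
  rwa [Submodule.coe_zero, zero_add, map_zero, Submodule.coe_zero, zero_add] at h1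

theorem exists_add (h : IsCompl V1 V2) (v : V) : ∃ (x : V1) (y : V2), v = x + y := by
  have h1 : v ∈ V1 ⊔ V2 := by rw [h.sup_eq_top]; exact Submodule.mem_top
  obtain ⟨x, hx, y, hy, rfl⟩ := Submodule.mem_sup.1 h1
  exact ⟨⟨x, hx⟩, ⟨y, hy⟩, rfl⟩

theorem ext_of (h : IsCompl V1 V2) {g k : V ≃ₗ[F] V} (h1 : ∀ x : V1, g x = k x) (h2 : ∀ y : V2, g y = k y) :
    g = k := by
  ext v
  obtain ⟨x, y, rfl⟩ := exists_add h v
  rw [map_add, map_add, h1, h2]

/-! ### Eigenspaces -/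

/-- the eigenspace -/
def eg (T : V ≃ₗ[F] V) (a : F) : Submodule F V where
  carrier := {v | T v = a • v}
  add_mem' {v w} hv hw := by
    have hv' : T v = a • v := hv
    have hw' : T w = a • w := hw
    change T (v + w) = a • (v + w)
    rw [map_add, hv', hw', smul_add]
  zero_mem' := by
    change T 0 = a • (0 : V)
    rw [map_zero, smul_zero]
  smul_mem' c v hv := by
    have hv' : T v = a • v := hv
    change T (c • v) = a • (c • v)
    rw [map_smul, hv', smul_comm]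

theorem mem_eg {T : V ≃ₗ[F] V} {a : F} {v : V} : v ∈ eg T a ↔ T v = a • v := Iff.rfl

theorem isCompl_eg (h2 : (2 : F) ≠ 0) {T : V ≃ₗ[F] V} {a : F} (ha : a ≠ 0) (hT : ∀ v, T (T v) = (a * a) • v) :
    IsCompl (eg T a) (eg T (-a)) := by
  constructor
  · rw [Submodule.disjoint_def]
    intro v hv hv'
    rw [mem_eg] at hv hv'
    rw [hv, neg_smul, eq_neg_iff_add_eq_zero, ← add_smul, ← two_mul] at hv'
    exact (smul_eq_zero.1 hv').resolve_left (mul_ne_zero h2 ha)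
  · rw [codisjoint_iff, eq_top_iff]
    intro v _
    rw [Submodule.mem_sup]
    refine ⟨(2 * a)⁻¹ • (a • v + T v), ?_, (2 * a)⁻¹ • (a • v - T v), ?_, ?_⟩
    · rw [mem_eg, map_smul, map_add, map_smul, hT, mul_smul]
      module
    · rw [mem_eg, map_smul, map_sub, map_smul, hT, mul_smul]
      module
    · rw [← smul_add]
      have h3 : a • v + T v + (a • v - T v) = (2 * a) • v := by
        rw [two_mul, add_smul]
        abel
      rw [h3, smul_smul, inv_mul_cancel₀ (mul_ne_zero h2 ha), one_smul]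

theorem map_eg {T g : V ≃ₗ[F] V} (h : g * T = T * g) {a : F} {v : V} (hv : v ∈ eg T a) : g v ∈ eg T a := by
  rw [mem_eg] at hv ⊢
  have h1 : g (T v) = T (g v) := congrArg (fun f : V ≃ₗ[F] V => f v) h
  rw [← h1, hv, map_smul]

/-- a glued map commutes with `T` -/
theorem glue_comm {T : V ≃ₗ[F] V} {a b : F} (h : IsCompl (eg T a) (eg T b)) (g1 : eg T a ≃ₗ[F] eg T a)
    (g2 : eg T b ≃ₗ[F] eg T b) : glue h g1 g2 * T = T * glue h g1 g2 := by
  refine ext_of h (fun x => ?_) (fun y => ?_)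
  · change glue h g1 g2 (T x) = T (glue h g1 g2 x)
    rw [mem_eg.1 x.2, map_smul, glue_left, mem_eg.1 (g1 x).2]
  · change glue h g1 g2 (T y) = T (glue h g1 g2 y)
    rw [mem_eg.1 y.2, map_smul, glue_right, mem_eg.1 (g2 y).2]

/-! ### The general linear group -/

theorem cent_inv {I : Subgroup (V ≃ₗ[F] V)} {T : V ≃ₗ[F] V} (a : F) :
    ∀ g ∈ I ⊓ centralizer ({T} : Set (V ≃ₗ[F] V)), ∀ u ∈ eg T a, g u ∈ eg T a :=
  fun _ hg _ hu => map_eg (mem_centralizer_singleton_iff.1 hg.2) hu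

theorem gl_split (h2 : (2 : F) ≠ 0) {T : V ≃ₗ[F] V} {a : F} (ha : a ≠ 0) (hT : ∀ v, T (T v) = (a * a) • v) :
    nc ↥(⊤ ⊓ centralizer ({T} : Set (V ≃ₗ[F] V))) ≤
      nc (eg T a ≃ₗ[F] eg T a) + nc (eg T (-a) ≃ₗ[F] eg T (-a)) := by
  have h := isCompl_eg h2 ha hT
  refine nc_le_add (rs _ (eg T a) (cent_inv a)) (rs _ (eg T (-a)) (cent_inv (-a))) ?_ ?_ ?_
  · intro g1
    refine ⟨⟨glue h g1 1, mem_top _, mem_centralizer_singleton_iff.2 (glue_comm h g1 1)⟩, ?_⟩
    ext u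
    rw [rs_apply]
    exact glue_left h g1 1 u
  · intro g2
    refine ⟨⟨glue h 1 g2, mem_top _, mem_centralizer_singleton_iff.2 (glue_comm h 1 g2)⟩, ?_⟩
    ext u
    rw [rs_apply]
    exact glue_right h 1 g2 u
  · intro g h1 h3
    apply Subtype.ext
    refine ext_of h (fun x => ?_) (fun y => ?_)
    · rw [← rs_apply (cent_inv a) g x, h1]
      rfl
    · rw [← rs_apply (cent_inv (-a)) g y, h3]
      rfl

/-! ### Isometries -/

variable {σ : F →+* F}

/-- the isometries of a sesquilinear form -/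
def Is (B : V →ₛₗ[σ] V →ₗ[F] F) : Subgroup (V ≃ₗ[F] V) where
  carrier := {g | ∀ x y, B (g x) (g y) = B x y}
  mul_mem' {g h} hg hh := fun x y => (hg (h x) (h y)).trans (hh x y)
  one_mem' := fun _ _ => rfl
  inv_mem' {g} hg := fun x y => by
    have h := hg (g⁻¹ x) (g⁻¹ y)
    have h1 : ∀ z, g (g⁻¹ z) = z := fun z => g.apply_symm_apply z
    rw [h1, h1] at h
    exact h.symm

theorem mem_Is {B : V →ₛₗ[σ] V →ₗ[F] F} {g : V ≃ₗ[F] V} : g ∈ Is B ↔ ∀ x y, B (g x) (g y) = B x y := Iff.rfl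

/-- the restriction of the form -/
def rB (B : V →ₛₗ[σ] V →ₗ[F] F) (U : Submodule F V) : U →ₛₗ[σ] U →ₗ[F] F := B.domRestrict₁₂ U U

theorem rB_apply (B : V →ₛₗ[σ] V →ₗ[F] F) (U : Submodule F V) (x y : U) : rB B U x y = B x y := rfl

theorem B_add4 (B : V →ₛₗ[σ] V →ₗ[F] F) (x1 x2 y1 y2 : V) :
    B (x1 + x2) (y1 + y2) = B x1 y1 + B x1 y2 + (B x2 y1 + B x2 y2) := by
  rw [map_add B, LinearMap.add_apply, map_add, map_add]

/-- nondegenerate on the left -/
def ND (B : V →ₛₗ[σ] V →ₗ[F] F) : Prop := ∀ y, (∀ x, B x y = 0) → y = 0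

theorem eg_orth {B : V →ₛₗ[σ] V →ₗ[F] F} {T : V ≃ₗ[F] V} (hT : T ∈ Is B) {a b : F} (hab : σ a * b ≠ 1) {x y : V}
    (hx : x ∈ eg T a) (hy : y ∈ eg T b) : B x y = 0 := by
  have h1 := mem_Is.1 hT x y
  rw [mem_eg.1 hx, mem_eg.1 hy, map_smul, LinearMap.map_smulₛₗ B, LinearMap.smul_apply, smul_smul, smul_eq_mul] at h1
  have h3 : (σ a * b - 1) * B x y = 0 := by rw [sub_mul, one_mul, mul_comm (σ a), h1, sub_self]
  exact (mul_eq_zero.1 h3).resolve_left (sub_ne_zero.2 hab)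

theorem rB_nd {B : V →ₛₗ[σ] V →ₗ[F] F} (hB : ND B) {V1 V2 : Submodule F V} (h : IsCompl V1 V2)
    (h12 : ∀ x ∈ V2, ∀ y ∈ V1, B x y = 0) : ND (rB B V1) := by
  intro y hy
  apply Subtype.ext
  apply hB
  intro v
  obtain ⟨x1, x2, rfl⟩ := exists_add h v
  rw [map_add, LinearMap.add_apply, h12 x2 x2.2 y y.2, add_zero]
  exact hy x1

/-- **Orthogonal eigenspaces.** -/
theorem is_split (h2 : (2 : F) ≠ 0) {B : V →ₛₗ[σ] V →ₗ[F] F} {T : V ≃ₗ[F] V} (hTB : T ∈ Is B) {a : F}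
    (ha : σ a * a = 1) (hT : ∀ v, T (T v) = (a * a) • v) :
    nc ↥(Is B ⊓ centralizer ({T} : Set (V ≃ₗ[F] V))) ≤
      nc ↥(Is (rB B (eg T a))) + nc ↥(Is (rB B (eg T (-a)))) := by
  have ha0 : a ≠ 0 := by
    rintro rfl
    rw [mul_zero] at ha
    exact zero_ne_one ha
  have h := isCompl_eg h2 ha0 hT
  have hne : σ a * (-a) ≠ 1 := by
    rw [mul_neg, ha]
    intro h3
    apply h2
    rw [← one_add_one_eq_two]
    nth_rewrite 1 [← h3]
    rw [neg_add_cancel]
  have hne' : σ (-a) * a ≠ 1 := by rwa [map_neg, neg_mul, ← mul_neg]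
  have o12 : ∀ x ∈ eg T a, ∀ y ∈ eg T (-a), B x y = 0 := fun x hx y hy => eg_orth hTB hne hx hy
  have o21 : ∀ x ∈ eg T (-a), ∀ y ∈ eg T a, B x y = 0 := fun x hx y hy => eg_orth hTB hne' hx hy
  let N := Is B ⊓ centralizer ({T} : Set (V ≃ₗ[F] V))
  let f1 : ↥N →* ↥(Is (rB B (eg T a))) := (rs N (eg T a) (cent_inv a)).codRestrict _ (fun g x y => g.2.1 x y)
  let f2 : ↥N →* ↥(Is (rB B (eg T (-a)))) :=
    (rs N (eg T (-a)) (cent_inv (-a))).codRestrict _ (fun g x y => g.2.1 x y)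
  have hgl : ∀ (g1 : ↥(Is (rB B (eg T a)))) (g2 : ↥(Is (rB B (eg T (-a))))), glue h g1 g2 ∈ N := by
    intro g1 g2
    refine ⟨fun x y => ?_, mem_centralizer_singleton_iff.2 (glue_comm h g1 g2)⟩
    obtain ⟨x1, x2, rfl⟩ := exists_add h x
    obtain ⟨y1, y2, rfl⟩ := exists_add h y
    rw [glue_add, glue_add, B_add4, B_add4, o12 _ (g1.1 x1).2 _ (g2.1 y2).2, o21 _ (g2.1 x2).2 _ (g1.1 y1).2,
      o12 _ x1.2 _ y2.2, o21 _ x2.2 _ y1.2]
    have e1 : B (g1.1 x1) (g1.1 y1) = B x1 y1 := g1.2 x1 y1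
    have e2 : B (g2.1 x2) (g2.1 y2) = B x2 y2 := g2.2 x2 y2
    rw [e1, e2]
  refine nc_le_add f1 f2 ?_ ?_ ?_
  · intro g1
    refine ⟨⟨glue h g1 (1 : ↥(Is (rB B (eg T (-a))))), hgl g1 1⟩, ?_⟩
    apply Subtype.ext
    ext u
    exact glue_left h g1.1 _ u
  · intro g2
    refine ⟨⟨glue h (1 : ↥(Is (rB B (eg T a)))) g2, hgl 1 g2⟩, ?_⟩
    apply Subtype.ext
    ext u
    exact glue_right h _ g2.1 u
  · intro g h1 h3
    apply Subtype.ext
    refine ext_of h (fun x => ?_) (fun y => ?_)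
    · have h4 := congrArg (fun k : ↥(Is (rB B (eg T a))) => ((k.1 x : eg T a) : V)) h1
      exact h4
    · have h4 := congrArg (fun k : ↥(Is (rB B (eg T (-a)))) => ((k.1 y : eg T (-a)) : V)) h3
      exact h4

/-! ### Totally isotropic eigenspaces -/

/-- the adjoint -/
theorem exists_adj [Finite F] [FiniteDimensional F V] {B : V →ₛₗ[σ] V →ₗ[F] F}
    (hB : ∀ x, (∀ y, B x y = 0) → x = 0) (f : V →ₗ[F] V) : ∃ k : V →ₗ[F] V, ∀ z x, B (k z) x = B z (f x) := by
  classical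
  have : Finite V := Module.finite_of_finite F
  have hinj : Function.Injective (fun z : V => (B z : V →ₗ[F] F)) := by
    intro z w hzw
    have h1 : ∀ y, B (z - w) y = 0 := by
      intro y
      have h3 : B z y = B w y := congrArg (fun φ : V →ₗ[F] F => φ y) hzw
      rw [map_sub, LinearMap.sub_apply, h3, sub_self]
    exact sub_eq_zero.1 (hB _ h1)
  have hcard : Nat.card V = Nat.card (Dual F V) := by
    rw [Module.natCard_eq_pow_finrank (K := F) (V := V), Module.natCard_eq_pow_finrank (K := F) (V := Dual F V),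
      Subspace.dual_finrank_eq]
  have hfin : Finite (Dual F V) := Module.finite_of_finite F
  have hbij : Function.Bijective (fun z : V => (B z : V →ₗ[F] F)) :=
    (Nat.bijective_iff_injective_and_card _).2 ⟨hinj, hcard⟩
  have hex : ∀ z, ∃ w, B w = (B z).comp f := fun z => hbij.2 ((B z).comp f)
  choose k hk using hex
  have hk' : ∀ z x, B (k z) x = B z (f x) := fun z x => congrArg (fun φ : V →ₗ[F] F => φ x) (hk z)
  refine ⟨{ toFun := k, map_add' := ?_, map_smul' := ?_ }, hk'⟩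
  · intro z w
    apply hinj
    ext x
    change B (k (z + w)) x = B (k z + k w) x
    rw [map_add, LinearMap.add_apply, hk', hk', hk', map_add, LinearMap.add_apply]
  · intro c z
    apply hinj
    ext x
    change B (k (c • z)) x = B (c • k z) x
    rw [LinearMap.map_smulₛₗ, LinearMap.smul_apply, hk', hk', LinearMap.map_smulₛₗ, LinearMap.smul_apply]

/-- **Totally isotropic eigenspaces.** -/
theorem is_isot [Finite F] [FiniteDimensional F V] (h2 : (2 : F) ≠ 0) {B : V →ₛₗ[σ] V →ₗ[F] F} (hB : ND B) {ε : F}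
    (hε : ∀ x y, B x y = ε * σ (B y x)) {T : V ≃ₗ[F] V} (hTB : T ∈ Is B) {a : F}
    (ha : σ a * a = -1) (hT : ∀ v, T (T v) = (a * a) • v) :
    nc ↥(Is B ⊓ centralizer ({T} : Set (V ≃ₗ[F] V))) ≤ nc (eg T a ≃ₗ[F] eg T a) := by
  have ha0 : a ≠ 0 := by
    rintro rfl
    rw [mul_zero, eq_comm, neg_eq_zero] at ha
    exact one_ne_zero ha
  have h := isCompl_eg h2 ha0 hT
  have h11 : (1 : F) ≠ -1 := by
    intro h3
    apply h2
    rw [← one_add_one_eq_two]
    nth_rewrite 1 [h3]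
    rw [neg_add_cancel]
  have hne : σ a * a ≠ 1 := by rw [ha]; exact h11.symm
  have hne' : σ (-a) * (-a) ≠ 1 := by rw [map_neg, neg_mul_neg, ha]; exact h11.symm
  have o11 : ∀ x ∈ eg T a, ∀ y ∈ eg T a, B x y = 0 := fun x hx y hy => eg_orth hTB hne hx hy
  have o22 : ∀ x ∈ eg T (-a), ∀ y ∈ eg T (-a), B x y = 0 := fun x hx y hy => eg_orth hTB hne' hx hy
  have hB' : ∀ x, (∀ y, B x y = 0) → x = 0 := by
    intro x hx
    apply hB
    intro y
    rw [hε, hx, map_zero, mul_zero]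
  let N := Is B ⊓ centralizer ({T} : Set (V ≃ₗ[F] V))
  refine nc_le_of_bij (rs N (eg T a) (cent_inv a)) ?_ ?_
  · rw [injective_iff_map_eq_one]
    intro g h1
    have h3 : ∀ x : eg T a, (g : V ≃ₗ[F] V) x = x := by
      intro x
      rw [← rs_apply (cent_inv a) g x, h1]
      rfl
    apply Subtype.ext
    refine ext_of h (fun x => h3 x) (fun y => ?_)
    change (g : V ≃ₗ[F] V) y = y
    rw [← sub_eq_zero]
    apply hB
    intro v
    obtain ⟨x1, x2, rfl⟩ := exists_add h v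
    have h4 : B x2 ((g : V ≃ₗ[F] V) y - y) = 0 :=
      o22 _ x2.2 _ (Submodule.sub_mem _ (cent_inv (-a) _ g.2 _ y.2) y.2)
    have h5 : B x1 ((g : V ≃ₗ[F] V) y - y) = 0 := by
      rw [map_sub, sub_eq_zero]
      have h6 := g.2.1 x1 y
      rw [h3 x1] at h6
      exact h6
    rw [map_add, LinearMap.add_apply, h4, h5, add_zero]
  · intro g1
    obtain ⟨k, hk⟩ := exists_adj hB' ((glue h g1⁻¹ 1 : V ≃ₗ[F] V) : V →ₗ[F] V)
    have hk2 : ∀ y : eg T (-a), k y ∈ eg T (-a) := by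
      intro y
      obtain ⟨z1, z2, hz⟩ := exists_add h (k y)
      have h3 : z1 = 0 := by
        apply Subtype.ext
        apply hB'
        intro v
        obtain ⟨x1, x2, rfl⟩ := exists_add h v
        rw [map_add, o11 _ z1.2 _ x1.2, zero_add]
        have h4 := hk y x2
        rw [hz, map_add, LinearMap.add_apply, o22 _ z2.2 _ x2.2, add_zero] at h4
        rw [h4]
        change B y (glue h g1⁻¹ 1 x2) = 0
        rw [glue_right]
        exact o22 _ y.2 _ x2.2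
      rw [hz, h3, Submodule.coe_zero, zero_add]
      exact z2.2
    let k2 : eg T (-a) →ₗ[F] eg T (-a) := k.restrict (fun y hy => hk2 ⟨y, hy⟩)
    have hk2a : ∀ y : eg T (-a), ((k2 y : eg T (-a)) : V) = k y := fun _ => rfl
    have hkk : ∀ (y : eg T (-a)) (x : eg T a), B (k2 y) (g1 x) = B y x := by
      intro y x
      rw [hk2a, hk]
      change B y (glue h g1⁻¹ 1 (g1 x)) = B y x
      rw [glue_left]
      congr 2
      exact g1.symm_apply_apply x
    have hinj : Function.Injective k2 := by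
      rw [← LinearMap.ker_eq_bot, LinearMap.ker_eq_bot']
      intro y hy
      apply Subtype.ext
      apply hB'
      intro v
      obtain ⟨x1, x2, rfl⟩ := exists_add h v
      rw [map_add, o22 _ y.2 _ x2.2, add_zero, ← hkk, hy, Submodule.coe_zero, map_zero, LinearMap.zero_apply]
    let g2 : eg T (-a) ≃ₗ[F] eg T (-a) := LinearEquiv.ofInjectiveEndo k2 hinj
    have hg2 : ∀ y, g2 y = k2 y := fun _ => rfl
    have hmem : glue h g1 g2 ∈ Is B := by
      intro x y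
      obtain ⟨x1, x2, rfl⟩ := exists_add h x
      obtain ⟨y1, y2, rfl⟩ := exists_add h y
      rw [glue_add, glue_add, B_add4, B_add4, o11 _ (g1 x1).2 _ (g1 y1).2, o22 _ (g2 x2).2 _ (g2 y2).2, o11 _ x1.2 _ y1.2,
        o22 _ x2.2 _ y2.2, hg2, hg2, hkk, hε (g1 x1 : V) (k2 y2 : V), hkk, ← hε]
    refine ⟨⟨glue h g1 g2, hmem, mem_centralizer_singleton_iff.2 (glue_comm h g1 g2)⟩, ?_⟩
    ext u
    rw [rs_apply]
    exact glue_left h g1 g2 u

end

end Cfsg.Agent.H65.CN
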