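import Mathlib
import Cfsg.Agent.H65.CN.Lin
import Cfsg.Agent.SignalizersComponents.SLQuasisimple
import Cfsg.Agent.ClassicalGeometry.HermOrthonormal
import Cfsg.Agent.ClassicalGeometry.SympIso
import Cfsg.Agent.S0269
import Cfsg.Agent.S0270
import Cfsg.Agent.S0283
import Cfsg.Agent.LieClassical.OrthFinite
import Cfsg.Agent.LieClassical.OrthSimple

/-!
# The number of components of the classical groups (helper65)

* `nc_gl`, `nc_herm`, `nc_alt` : at most one component;
* `nc_symm` : at most two components.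
-/

set_option autoImplicit false
set_option linter.unusedSectionVars false

open Cfsg Subgroup Module
open scoped commutatorElement

namespace Cfsg.Agent.H65.CN

theorem nc_le_one_of_quasisimple {C : Type*} [Group C] (h : IsQuasisimple C) : nc C ≤ 1 := by
  have e : C ≃* ↥(⊤ : Subgroup C) := Subgroup.topEquiv.symm
  refine nc_le_one (K := ⊤) (SignalizersComponents.Components.isQuasisimple_of_mulEquiv e h) ?_
  have : Subsingleton (C ⧸ (⊤ : Subgroup C)) := QuotientGroup.subsingleton_quotient_top
  exact Group.isSolvable_of_comm fun a b => Subsingleton.elim _ _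

section

variable {F V : Type*} [Field F] [AddCommGroup V] [Module F V]

theorem nc_small [FiniteDimensional F V] (I : Subgroup (V ≃ₗ[F] V)) {k : ℕ} (hk : finrank F V ≤ 2 * k + 1) :
    nc ↥I ≤ k :=
  nc_le_of_finrank (LinearEquiv.automorphismGroup.toLinearMapMonoidHom.comp I.subtype)
    (fun _ _ h => Subtype.ext (LinearEquiv.toLinearMap_injective h)) hk

theorem nc_small' [FiniteDimensional F V] {k : ℕ} (hk : finrank F V ≤ 2 * k + 1) :
    nc (V ≃ₗ[F] V) ≤ k :=
  nc_le_of_finrank LinearEquiv.automorphismGroup.toLinearMapMonoidHom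
    (fun _ _ h => LinearEquiv.toLinearMap_injective h) hk

variable {n : ℕ}

/-- `SL_n(F) → GL(V)` -/
noncomputable def slV (e : V ≃ₗ[F] (Fin n → F)) : Matrix.SpecialLinearGroup (Fin n) F →* (V ≃ₗ[F] V) where
  toFun M := (e.trans (Matrix.SpecialLinearGroup.toLin' M)).trans e.symm
  map_one' := by
    ext v
    simp
  map_mul' M N := by
    ext v
    change e.symm (Matrix.SpecialLinearGroup.toLin' (M * N) (e v)) =
      e.symm (Matrix.SpecialLinearGroup.toLin' M (e (e.symm (Matrix.SpecialLinearGroup.toLin' N (e v)))))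
    rw [map_mul, e.apply_symm_apply]
    rfl

theorem slV_apply (e : V ≃ₗ[F] (Fin n → F)) (M : Matrix.SpecialLinearGroup (Fin n) F) (v : V) :
    slV e M v = e.symm ((M : Matrix (Fin n) (Fin n) F).mulVec (e v)) := by
  change e.symm (Matrix.SpecialLinearGroup.toLin' M (e v)) = _
  rw [Matrix.SpecialLinearGroup.toLin'_apply]
  rfl

theorem slV_injective (e : V ≃ₗ[F] (Fin n → F)) : Function.Injective (slV e) := by
  intro M N h
  apply Subtype.ext
  apply (Matrix.toLin' (R := F) (m := Fin n) (n := Fin n)).injective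
  apply LinearMap.ext
  intro v
  have h1 := congrArg (fun g : V ≃ₗ[F] V => e (g (e.symm v))) h
  simp only [slV_apply, e.apply_symm_apply] at h1
  exact h1

theorem det_slV [FiniteDimensional F V] (e : V ≃ₗ[F] (Fin n → F)) (M : Matrix.SpecialLinearGroup (Fin n) F) :
    LinearEquiv.det (slV e M) = 1 := by
  apply Units.ext
  rw [LinearEquiv.coe_det, Units.val_one]
  have h1 : ((slV e M : V ≃ₗ[F] V) : V →ₗ[F] V) =
      (e.symm : (Fin n → F) →ₗ[F] V) ∘ₗ (Matrix.toLin' (M : Matrix (Fin n) (Fin n) F)) ∘ₗ (e : V →ₗ[F] (Fin n → F)) := by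
    ext v
    exact slV_apply e M v
  rw [h1]
  have h2 := LinearMap.det_conj (Matrix.toLin' (M : Matrix (Fin n) (Fin n) F)) e.symm
  rw [LinearMap.det_toLin', M.2] at h2
  exact h2

theorem exists_slV [FiniteDimensional F V] (e : V ≃ₗ[F] (Fin n → F)) {g : V ≃ₗ[F] V} (hg : LinearEquiv.det g = 1) :
    ∃ M, slV e M = g := by
  let f : (Fin n → F) →ₗ[F] (Fin n → F) :=
    (e : V →ₗ[F] (Fin n → F)) ∘ₗ (g : V →ₗ[F] V) ∘ₗ (e.symm : (Fin n → F) →ₗ[F] V)
  have hdet : (LinearMap.toMatrix' f).det = 1 := by
    rw [LinearMap.det_toMatrix']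
    have h2 : LinearMap.det f = LinearMap.det (g : V →ₗ[F] V) := LinearMap.det_conj (g : V →ₗ[F] V) e
    rw [h2, ← LinearEquiv.coe_det, hg, Units.val_one]
  refine ⟨(⟨LinearMap.toMatrix' f, hdet⟩ : Matrix.SpecialLinearGroup (Fin n) F), ?_⟩
  ext v
  refine (slV_apply e _ v).trans ?_
  change e.symm ((LinearMap.toMatrix' f).mulVec (e v)) = g v
  rw [LinearMap.toMatrix'_mulVec]
  change e.symm (e (g (e.symm (e v)))) = g v
  rw [e.symm_apply_apply, e.symm_apply_apply]

/-- a group of isometries, from the matrices of determinant one -/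
theorem nc_le_of_slV [FiniteDimensional F V] (e : V ≃ₗ[F] (Fin n → F)) (I : Subgroup (V ≃ₗ[F] V))
    (J : Subgroup (Matrix.SpecialLinearGroup (Fin n) F)) (hJ : ∀ M, M ∈ J ↔ slV e M ∈ I)
    (hq : IsQuasisimple ↥J) : nc ↥I ≤ 1 := by
  let d : ↥I →* Fˣ := LinearEquiv.det.comp I.subtype
  have h1 : nc ↥I ≤ nc ↥d.ker := nc_le_of_ker d (Group.isSolvable_of_comm fun a b => mul_comm a b)
  let f : ↥J →* ↥d.ker := (((slV e).comp J.subtype).codRestrict I (fun M => (hJ M).1 M.2)).codRestrict d.ker
    (fun M => MonoidHom.mem_ker.2 (det_slV e M))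
  have hf : Function.Bijective f := by
    constructor
    · intro M N h
      apply Subtype.ext
      apply slV_injective e
      exact congrArg (fun g : ↥d.ker => ((g : ↥I) : V ≃ₗ[F] V)) h
    · intro g
      obtain ⟨M, hM⟩ := exists_slV e (g := ((g : ↥I) : V ≃ₗ[F] V)) (MonoidHom.mem_ker.1 g.2)
      refine ⟨⟨M, (hJ M).2 ?_⟩, ?_⟩
      · rw [hM]
        exact (g : ↥I).2
      · apply Subtype.ext
        apply Subtype.ext
        exact hM
  exact h1.trans ((nc_congr (MulEquiv.ofBijective f hf)).symm.le.trans (nc_le_one_of_quasisimple hq))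

/-- **`GL(V)`** -/
theorem nc_gl [FiniteDimensional F V] : nc (V ≃ₗ[F] V) ≤ 1 := by
  rcases Nat.lt_or_ge 3 (finrank F V) with h | h
  · have e : V ≃ₗ[F] (Fin (finrank F V) → F) := (finBasis F V).equivFun
    have hq : IsQuasisimple ↥(⊤ : Subgroup (Matrix.SpecialLinearGroup (Fin (finrank F V)) F)) :=
      SignalizersComponents.Components.isQuasisimple_of_mulEquiv Subgroup.topEquiv.symm
        (SignalizersComponents.SLQuasisimple.isQuasisimple_of_three_le (by rw [Fintype.card_fin]; omega))
    have h1 := nc_le_of_slV e ⊤ ⊤ (fun M => by simp) hq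
    exact (nc_congr Subgroup.topEquiv.symm).le.trans h1
  · exact_mod_cast nc_small' (k := 1) (by omega)

end

section

variable {F V : Type*} [Field F] [Finite F] [AddCommGroup V] [Module F V] [FiniteDimensional F V]

/-- **The unitary groups.** -/
theorem nc_herm {σ : F →+* F} {q : ℕ} (hF : Nat.card F = q ^ 2) (hσ : ∀ x, σ x = x ^ q) {B : V →ₛₗ[σ] V →ₗ[F] F}
    (hS : ∀ x y, σ (B x y) = B y x) (hB : ND B) : nc ↥(Is B) ≤ 1 := by
  classical
  have := Fintype.ofFinite F
  have hF' : Fintype.card F = q ^ 2 := by rw [← Nat.card_eq_fintype_card, hF]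
  rcases Nat.lt_or_ge 3 (finrank F V) with h | h
  · have hσ2 : ∀ a : F, σ (σ a) = a := by
      intro a
      rw [hσ, hσ, ← pow_mul, ← pow_two, ← hF']
      exact FiniteField.pow_card a
    have hq1 : 1 < q := by
      by_contra hle
      have h1 : 1 < Fintype.card F := Fintype.one_lt_card
      rw [hF'] at h1
      have h3 : q ^ 2 ≤ 1 ^ 2 := Nat.pow_le_pow_left (by omega) 2
      omega
    have hσ1 : σ ≠ RingHom.id F := by
      intro h1
      have h3 : ∀ x : F, x ^ q = x := fun x => by rw [← hσ, h1]; rfl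
      -- the polynomial `X^q - X` has at most `q` roots
      have h4 : Fintype.card F ≤ q := by
        have h5 := Polynomial.card_roots' (Polynomial.X ^ q - Polynomial.X : Polynomial F)
        rw [FiniteField.X_pow_card_sub_X_natDegree_eq F hq1] at h5
        have h6 : (Finset.univ : Finset F).val ≤ (Polynomial.X ^ q - Polynomial.X : Polynomial F).roots := by
          rw [Multiset.le_iff_subset Finset.univ.nodup]
          intro x _
          rw [Polynomial.mem_roots (FiniteField.X_pow_card_sub_X_ne_zero F hq1), Polynomial.IsRoot.def,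
            Polynomial.eval_sub, Polynomial.eval_pow, Polynomial.eval_X, h3 x, sub_self]
        have h7 := Multiset.card_le_card h6
        have h8 : Multiset.card (Finset.univ : Finset F).val = Fintype.card F := rfl
        omega
      rw [hF'] at h4
      nlinarith
    have hS' : B.IsSymm := ⟨fun x y => by
      have h1 := hS x y
      exact h1⟩
    obtain ⟨b, hb⟩ := ClassicalGeometry.HermOrthonormal.exists_orthonormal_basis hσ1 hσ2 B hS' (by
      intro x hx
      apply hB
      intro y
      rw [← hS, hx, map_zero])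
    have hform : ∀ x y : V, B x y = hermForm (finrank F V) F q (b.equivFun y) (b.equivFun x) := by
      intro x y
      conv_lhs => rw [← b.sum_equivFun x, ← b.sum_equivFun y]
      rw [map_sum B, LinearMap.sum_apply]
      unfold hermForm
      refine Finset.sum_congr rfl fun i _ => ?_
      rw [map_sum, LinearMap.map_smulₛₗ B]
      simp only [LinearMap.smul_apply, map_smul, hb, smul_eq_mul]
      rw [Finset.sum_eq_single i]
      · rw [if_pos rfl, hσ]
        ring
      · intro j _ hj
        rw [if_neg (Ne.symm hj)]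
        ring
      · intro h1
        exact absurd (Finset.mem_univ i) h1
    refine nc_le_of_slV b.equivFun (Is B) (SU (finrank F V) F q) ?_
      ⟨⟨LieClassical.HermPerfect.commutator_SU_eq_top hF' (by omega) (by omega)⟩,
        S0283.result hF' _ (by omega) (by omega)⟩
    intro M
    have h1 : ∀ v, b.equivFun (slV b.equivFun M v) = (M : Matrix _ _ F).mulVec (b.equivFun v) := by
      intro v
      rw [slV_apply, LinearEquiv.apply_symm_apply]
    constructor
    · intro hM x y
      rw [hform, hform, h1, h1]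
      exact hM _ _
    · intro hM u v
      have h3 := hM (b.equivFun.symm v) (b.equivFun.symm u)
      rw [hform, hform, h1, h1, LinearEquiv.apply_symm_apply, LinearEquiv.apply_symm_apply] at h3
      exact h3
  · exact_mod_cast nc_small (Is B) (k := 1) (by omega)

/-- the linear map of a symplectic matrix -/
noncomputable def spE {m : ℕ} (A : ↥(Matrix.symplecticGroup (Fin m) F)) :
    (Fin m ⊕ Fin m → F) ≃ₗ[F] (Fin m ⊕ Fin m → F) :=
  LinearEquiv.ofLinearMap (Matrix.toLin' (A : Matrix _ _ F))
    (Matrix.toLin' ((A⁻¹ : ↥(Matrix.symplecticGroup (Fin m) F)) : Matrix _ _ F))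
    (by
      rw [← Matrix.toLin'_mul]
      have h6 : (A : Matrix (Fin m ⊕ Fin m) (Fin m ⊕ Fin m) F) *
        ((A⁻¹ : ↥(Matrix.symplecticGroup (Fin m) F)) : Matrix _ _ F) = 1 :=
        congrArg Subtype.val (mul_inv_cancel A)
      rw [h6, Matrix.toLin'_one])
    (by
      rw [← Matrix.toLin'_mul]
      have h6 : ((A⁻¹ : ↥(Matrix.symplecticGroup (Fin m) F)) : Matrix _ _ F) *
        (A : Matrix (Fin m ⊕ Fin m) (Fin m ⊕ Fin m) F) = 1 :=
        congrArg Subtype.val (inv_mul_cancel A)
      rw [h6, Matrix.toLin'_one])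

/-- `Sp_{2m}(F)` as a group of isometries -/
noncomputable def spHom {m : ℕ} {B : V →ₗ[F] V →ₗ[F] F} (e : (Fin m ⊕ Fin m → F) ≃ₗ[F] V)
    (he : ∀ x y, B (e x) (e y) = sympForm m F x y) : ↥(Matrix.symplecticGroup (Fin m) F) →* ↥(Is B) where
  toFun A :=
    ⟨(e.symm.trans (spE A)).trans e, by
      intro x y
      change B (e ((A : Matrix _ _ F).mulVec (e.symm x))) (e ((A : Matrix _ _ F).mulVec (e.symm y))) = B x y
      rw [he, ClassicalGeometry.SympBasic.sympForm_mulVec A.2, ← he, e.apply_symm_apply, e.apply_symm_apply]⟩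
  map_one' := by
    apply Subtype.ext
    ext x
    change e ((1 : Matrix (Fin m ⊕ Fin m) (Fin m ⊕ Fin m) F).mulVec (e.symm x)) = x
    rw [Matrix.one_mulVec, e.apply_symm_apply]
  map_mul' := by
    intro A C
    apply Subtype.ext
    ext x
    change e (((A : Matrix (Fin m ⊕ Fin m) (Fin m ⊕ Fin m) F) * C).mulVec (e.symm x)) =
      e ((A : Matrix (Fin m ⊕ Fin m) (Fin m ⊕ Fin m) F).mulVec
        (e.symm (e ((C : Matrix (Fin m ⊕ Fin m) (Fin m ⊕ Fin m) F).mulVec (e.symm x)))))
    rw [e.symm_apply_apply, Matrix.mulVec_mulVec]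

theorem spHom_apply {m : ℕ} {B : V →ₗ[F] V →ₗ[F] F} (e : (Fin m ⊕ Fin m → F) ≃ₗ[F] V)
    (he : ∀ x y, B (e x) (e y) = sympForm m F x y) (A : ↥(Matrix.symplecticGroup (Fin m) F)) (x : V) :
    (spHom e he A).1 x = e ((A : Matrix (Fin m ⊕ Fin m) (Fin m ⊕ Fin m) F).mulVec (e.symm x)) := rfl

theorem spHom_bijective {m : ℕ} {B : V →ₗ[F] V →ₗ[F] F} (e : (Fin m ⊕ Fin m → F) ≃ₗ[F] V)
    (he : ∀ x y, B (e x) (e y) = sympForm m F x y) : Function.Bijective (spHom e he) := by
  constructor
  · intro A C h6
    apply Subtype.ext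
    apply (Matrix.toLin' (R := F)).injective
    apply LinearMap.ext
    intro x
    have h7 := congrArg (fun g : ↥(Is B) => e.symm (g.1 (e x))) h6
    simp only [spHom_apply, e.symm_apply_apply] at h7
    exact h7
  · intro g
    let g' : (Fin m ⊕ Fin m → F) →ₗ[F] (Fin m ⊕ Fin m → F) :=
      (e.symm : V →ₗ[F] _) ∘ₗ (g.1 : V →ₗ[F] V) ∘ₗ (e : _ →ₗ[F] V)
    have hg' : ∀ x, (LinearMap.toMatrix' g').mulVec x = e.symm (g.1 (e x)) := by
      intro x
      rw [LinearMap.toMatrix'_mulVec]
      rfl
    refine ⟨⟨LinearMap.toMatrix' g', ?_⟩, ?_⟩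
    · rw [ClassicalGeometry.SympBasic.mem_symplecticGroup_iff]
      intro x y
      rw [hg', hg', ← he, e.apply_symm_apply, e.apply_symm_apply, ← he]
      exact g.2 _ _
    · apply Subtype.ext
      ext x
      rw [spHom_apply]
      change e ((LinearMap.toMatrix' g').mulVec (e.symm x)) = _
      rw [hg', e.apply_symm_apply, e.apply_symm_apply]

/-- **The symplectic groups.** -/
theorem nc_alt (h2 : (2 : F) ≠ 0) {B : V →ₗ[F] V →ₗ[F] F} (hA : ∀ x, B x x = 0) (hB : ND B) : nc ↥(Is B) ≤ 1 := by
  classical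
  have := Fintype.ofFinite F
  rcases Nat.lt_or_ge 3 (finrank F V) with h | h
  · have hA' : LinearMap.BilinForm.IsAlt B := hA
    have hnd : ∀ u, (∀ v, B u v = 0) → u = 0 := by
      intro u hu
      apply hB
      intro v
      rw [← LinearMap.BilinForm.IsAlt.neg_eq hA', hu, neg_zero]
    obtain ⟨m, l, b, h1, h3, h4, h5⟩ := Cfsg.Agent.S0752.result B hA'
    have hl : l = 0 := by
      by_contra hl
      exact b.ne_zero _ (hnd _ (h5 ⟨0, Nat.pos_of_ne_zero hl⟩))
    subst hl
    have hm : finrank F V = 2 * m := by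
      have h6 := finrank_eq_card_basis b
      simp at h6
      omega
    obtain ⟨e, he⟩ := ClassicalGeometry.SympIso.exists_linearEquiv_sympForm B hA' hnd hm
    have h3F : 3 ≤ Fintype.card F := by
      by_contra hlt
      have h6 : Fintype.card F = 2 := by
        have := Fintype.one_lt_card (α := F)
        omega
      apply h2
      have h7 : ((Fintype.card F : ℕ) : F) = 0 := Nat.cast_card_eq_zero F
      rw [h6] at h7
      exact_mod_cast h7
    have hq : IsQuasisimple ↥(Matrix.symplecticGroup (Fin m) F) := by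
      refine ⟨⟨S0269.result m ?_⟩, S0270.result m (by omega) (fun _ => h3F)⟩
      rcases Nat.lt_or_ge 2 m with h6 | h6
      · exact Or.inl h6
      · exact Or.inr (Or.inl ⟨by omega, h3F⟩)
    exact (nc_congr (MulEquiv.ofBijective _ (spHom_bijective e he))).symm.le.trans (nc_le_one_of_quasisimple hq)
  · exact_mod_cast nc_small (Is B) (k := 1) (by omega)

open LieClassical.OrthCore LieClassical.OrthTrans LieClassical.OrthSimple in
/-- **The orthogonal groups.** -/
theorem nc_O (Q : QuadraticForm F V) (hQ : Nondeg Q) : nc ↥(O Q) ≤ 2 := by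
  rcases Nat.lt_or_ge 5 (finrank F V) with h | h
  · have hG := LieClassical.OrthFinite.good_of_finite hQ (by omega)
    have hq : IsQuasisimple ↥(E Q) := ⟨Subgroup.isPerfect_iff.mpr hG.E_perfect, good_isSimpleGroup hG⟩
    have h1 : nc ↥(O Q) ≤ 1 := by
      have hn : ((E Q).subgroupOf (O Q)) = commutator ↥(O Q) := by
        apply Subgroup.map_injective (O Q).subtype_injective
        rw [subgroupOf_map_subtype, inf_eq_left.2 E_le_O, _root_.commutator_def, Subgroup.map_commutator,
          ← MonoidHom.range_eq_map, (O Q).range_subtype, hG.commutator_eq_E]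
      have hn' : ((E Q).subgroupOf (O Q)).Normal := by rw [hn]; infer_instance
      refine nc_le_one (K := (E Q).subgroupOf (O Q)) ?_ ?_
      · exact SignalizersComponents.Components.isQuasisimple_of_mulEquiv
          (Subgroup.subgroupOfEquivOfLe E_le_O).symm hq
      · refine Group.isSolvable_of_comm fun a b => ?_
        obtain ⟨x, rfl⟩ := QuotientGroup.mk_surjective a
        obtain ⟨y, rfl⟩ := QuotientGroup.mk_surjective b
        rw [← QuotientGroup.mk_mul, ← QuotientGroup.mk_mul, QuotientGroup.eq, hn, _root_.commutator_def]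
        have h5 : (x * y)⁻¹ * (y * x) = ⁅y⁻¹, x⁻¹⁆ := by
          rw [commutatorElement_def]
          group
        rw [h5]
        exact commutator_mem_commutator (mem_top _) (mem_top _)
    exact h1.trans (by norm_num)
  · exact_mod_cast nc_small (O Q) (k := 2) (by omega)

open LieClassical.OrthCore in
/-- **The orthogonal groups.** -/
theorem nc_symm (h2 : (2 : F) ≠ 0) {B : V →ₗ[F] V →ₗ[F] F} (hS : ∀ x y, B x y = B y x) (hB : ND B) :
    nc ↥(Is B) ≤ 2 := by
  let Q : QuadraticForm F V := LinearMap.BilinMap.toQuadraticMap B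
  have hQ : ∀ x, Q x = B x x := fun _ => rfl
  have hpol : ∀ x y, QuadraticMap.polar Q x y = 2 * B x y := by
    intro x y
    rw [QuadraticMap.polar, hQ, hQ, hQ, map_add B, LinearMap.add_apply, map_add, map_add, hS y x]
    ring
  have hnd : Nondeg Q := by
    intro x hx
    apply hB
    intro y
    have h1 := hx y
    rw [hpol] at h1
    rw [hS]
    exact (mul_eq_zero.1 h1).resolve_left h2
  have hI : Is B = O Q := by
    ext g
    constructor
    · intro hg x
      rw [hQ, hQ]
      exact hg x x
    · intro hg x y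
      have h1 := polar_map hg x y
      rw [hpol, hpol] at h1
      exact mul_left_cancel₀ h2 h1
  rw [hI]
  exact nc_O Q hnd

end

end Cfsg.Agent.H65.CN
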