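import Mathlib
import Cfsg.Agent.H65.CN.Types

/-!
# Linear maps with scalar square: the quadratic extension, and the bounds (helper65)

* `gl_le` : `T ∈ GL(V)` with `T²` scalar: at most 2 components;
* `alt_le` : symplectic groups: at most 2 components;
* `herm_le` : unitary groups: at most 2 components;
* `symm_le` : orthogonal groups: at most 4 components.
-/

set_option autoImplicit false
set_option linter.unusedSectionVars false

open Cfsg Subgroup Module
open scoped commutatorElement

namespace Cfsg.Agent.H65.CN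

section

variable {F V : Type*} [Field F] [AddCommGroup V] [Module F V] {c : F}

/-- the action of the quadratic extension -/
@[reducible] def modE (T : V ≃ₗ[F] V) (hT : ∀ v, T (T v) = c • v) : Module (QuadraticAlgebra F c 0) V where
  smul z v := z.re • v + z.im • T v
  one_smul v := by
    change (1 : QuadraticAlgebra F c 0).re • v + (1 : QuadraticAlgebra F c 0).im • T v = v
    rw [QuadraticAlgebra.re_one, QuadraticAlgebra.im_one, one_smul, zero_smul, add_zero]
  mul_smul z w v := by
    change (z * w).re • v + (z * w).im • T v = z.re • (w.re • v + w.im • T v) + z.im • T (w.re • v + w.im • T v)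
    rw [QuadraticAlgebra.re_mul, QuadraticAlgebra.im_mul, map_add, map_smul, map_smul, hT]
    module
  smul_zero z := by
    change z.re • (0 : V) + z.im • T 0 = 0
    rw [map_zero, smul_zero, smul_zero, add_zero]
  smul_add z v w := by
    change z.re • (v + w) + z.im • T (v + w) = (z.re • v + z.im • T v) + (z.re • w + z.im • T w)
    rw [map_add]
    module
  add_smul z w v := by
    change (z + w).re • v + (z + w).im • T v = (z.re • v + z.im • T v) + (w.re • v + w.im • T v)
    rw [QuadraticAlgebra.re_add, QuadraticAlgebra.im_add]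
    module
  zero_smul v := by
    change (0 : QuadraticAlgebra F c 0).re • v + (0 : QuadraticAlgebra F c 0).im • T v = 0
    rw [QuadraticAlgebra.re_zero, QuadraticAlgebra.im_zero, zero_smul, zero_smul, add_zero]

variable [Module (QuadraticAlgebra F c 0) V] {T : V ≃ₗ[F] V}

/-- the `E`-linear maps -/
theorem smul_comm_of (hsm : ∀ (z : QuadraticAlgebra F c 0) (v : V), z • v = z.re • v + z.im • T v)
    {g : V ≃ₗ[F] V} (hg : g * T = T * g) (z : QuadraticAlgebra F c 0) (v : V) : g (z • v) = z • g v := by
  have h1 : g (T v) = T (g v) := congrArg (fun f : V ≃ₗ[F] V => f v) hg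
  rw [hsm, hsm, map_add, map_smul, map_smul, h1]

/-- the maps commuting with `T` are the `E`-linear maps -/
def extHom (I : Subgroup (V ≃ₗ[F] V))
    (hsm : ∀ (z : QuadraticAlgebra F c 0) (v : V), z • v = z.re • v + z.im • T v) :
    ↥(I ⊓ centralizer ({T} : Set (V ≃ₗ[F] V))) →* (V ≃ₗ[QuadraticAlgebra F c 0] V) where
  toFun g :=
    { toFun := g.1
      invFun := g.1.symm
      left_inv := g.1.symm_apply_apply
      right_inv := g.1.apply_symm_apply
      map_add' := g.1.map_add
      map_smul' := fun z v => smul_comm_of hsm (mem_centralizer_singleton_iff.1 g.2.2) z v }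
  map_one' := by
    ext v
    rfl
  map_mul' g h := by
    ext v
    rfl

theorem extHom_apply {I : Subgroup (V ≃ₗ[F] V)}
    (hsm : ∀ (z : QuadraticAlgebra F c 0) (v : V), z • v = z.re • v + z.im • T v)
    (g : ↥(I ⊓ centralizer ({T} : Set (V ≃ₗ[F] V)))) (v : V) : extHom I hsm g v = g.1 v := rfl

theorem extHom_injective {I : Subgroup (V ≃ₗ[F] V)}
    (hsm : ∀ (z : QuadraticAlgebra F c 0) (v : V), z • v = z.re • v + z.im • T v) :
    Function.Injective (extHom I hsm) := by
  intro g h hgh
  apply Subtype.ext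
  ext v
  exact congrArg (fun f : V ≃ₗ[QuadraticAlgebra F c 0] V => f v) hgh

/-- restriction of scalars -/
def down (hsm : ∀ (z : QuadraticAlgebra F c 0) (v : V), z • v = z.re • v + z.im • T v)
    (g : V ≃ₗ[QuadraticAlgebra F c 0] V) : V ≃ₗ[F] V where
  toFun := g
  invFun := g.symm
  left_inv := g.symm_apply_apply
  right_inv := g.apply_symm_apply
  map_add' := g.map_add
  map_smul' := fun a v => by
    have h1 : ∀ w : V, a • w = (⟨a, 0⟩ : QuadraticAlgebra F c 0) • w := by
      intro w
      rw [hsm, zero_smul, add_zero]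
    rw [h1, g.map_smul, ← h1]
    rfl

theorem down_comm (hsm : ∀ (z : QuadraticAlgebra F c 0) (v : V), z • v = z.re • v + z.im • T v)
    (g : V ≃ₗ[QuadraticAlgebra F c 0] V) : down hsm g * T = T * down hsm g := by
  have h1 : ∀ w : V, T w = (⟨0, 1⟩ : QuadraticAlgebra F c 0) • w := by
    intro w
    rw [hsm, zero_smul, one_smul, zero_add]
  ext v
  change g (T v) = T (g v)
  rw [h1, g.map_smul, ← h1]

theorem gl_ext (hsm : ∀ (z : QuadraticAlgebra F c 0) (v : V), z • v = z.re • v + z.im • T v) :
    nc ↥(⊤ ⊓ centralizer ({T} : Set (V ≃ₗ[F] V))) ≤ nc (V ≃ₗ[QuadraticAlgebra F c 0] V) := by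
  refine nc_le_of_bij (extHom ⊤ hsm) (extHom_injective hsm) ?_
  intro g
  refine ⟨⟨down hsm g, mem_top _, mem_centralizer_singleton_iff.2 (down_comm hsm g)⟩, ?_⟩
  ext v
  rfl

end

section

variable {F V : Type*} [Field F] [AddCommGroup V] [Module F V] [Module (QuadraticAlgebra F (-1) 0) V]
  {T : V ≃ₗ[F] V} {B : V →ₗ[F] V →ₗ[F] F}

theorem skewT (hTB : T ∈ Is B) (hT : ∀ v, T (T v) = (-1 : F) • v) (v w : V) : B (T v) w = -B v (T w) := by
  have h1 := mem_Is.1 hTB (T v) w
  rw [hT, neg_smul, one_smul, map_neg, LinearMap.neg_apply] at h1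
  exact h1.symm

/-- the form over the quadratic extension -/
noncomputable def hE (B : V →ₗ[F] V →ₗ[F] F) (T : V ≃ₗ[F] V) (hTB : T ∈ Is B) (hT : ∀ v, T (T v) = (-1 : F) • v)
    (hsm : ∀ (z : QuadraticAlgebra F (-1) 0) (v : V), z • v = z.re • v + z.im • T v) :
    V →ₛₗ[starRingEnd (QuadraticAlgebra F (-1) 0)] V →ₗ[QuadraticAlgebra F (-1) 0] (QuadraticAlgebra F (-1) 0) :=
  LinearMap.mk₂'ₛₗ (starRingEnd (QuadraticAlgebra F (-1) 0)) (RingHom.id _) (fun v w => ⟨B v (T w), B v w⟩)
    (by
      intro v w x
      ext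
      · simp
      · simp)
    (by
      intro z v w
      rw [hsm]
      ext
      · simp only [map_add, map_smul, LinearMap.add_apply, LinearMap.smul_apply, smul_eq_mul, starRingEnd_apply,
          QuadraticAlgebra.re_mul, QuadraticAlgebra.re_star, QuadraticAlgebra.im_star]
        rw [mem_Is.1 hTB v w]
        ring
      · simp only [map_add, map_smul, LinearMap.add_apply, LinearMap.smul_apply, smul_eq_mul, starRingEnd_apply,
          QuadraticAlgebra.im_mul, QuadraticAlgebra.re_star, QuadraticAlgebra.im_star]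
        rw [skewT hTB hT v w]
        ring)
    (by
      intro v w x
      ext
      · simp
      · simp)
    (by
      intro z v w
      rw [hsm]
      ext
      · simp only [map_add, map_smul, smul_eq_mul, RingHom.id_apply, QuadraticAlgebra.re_mul]
        rw [hT, map_smul, smul_eq_mul]
        ring
      · simp only [map_add, map_smul, smul_eq_mul, RingHom.id_apply, QuadraticAlgebra.im_mul]
        ring)

variable (hTB : T ∈ Is B) (hT : ∀ v, T (T v) = (-1 : F) • v)
  (hsm : ∀ (z : QuadraticAlgebra F (-1) 0) (v : V), z • v = z.re • v + z.im • T v)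

theorem hE_apply (v w : V) : hE B T hTB hT hsm v w = ⟨B v (T w), B v w⟩ := rfl

theorem is_ext [Fact (∀ r : F, r ^ 2 ≠ -1 + 0 * r)] :
    nc ↥(Is B ⊓ centralizer ({T} : Set (V ≃ₗ[F] V))) ≤ nc ↥(Is (hE B T hTB hT hsm)) := by
  let f : ↥(Is B ⊓ centralizer ({T} : Set (V ≃ₗ[F] V))) →* ↥(Is (hE B T hTB hT hsm)) :=
    (extHom (Is B) hsm).codRestrict _ (by
      intro g x y
      rw [extHom_apply, extHom_apply, hE_apply, hE_apply]
      have h1 : T (g.1 y) = g.1 (T y) :=
        (congrArg (fun f : V ≃ₗ[F] V => f y) (mem_centralizer_singleton_iff.1 g.2.2)).symm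
      rw [h1, g.2.1, g.2.1])
  refine nc_le_of_bij f ?_ ?_
  · intro g h hgh
    exact extHom_injective hsm (congrArg Subtype.val hgh)
  · intro g
    refine ⟨⟨down hsm g.1, ?_, mem_centralizer_singleton_iff.2 (down_comm hsm g.1)⟩, ?_⟩
    · intro x y
      have h1 := g.2 x y
      rw [hE_apply, hE_apply] at h1
      exact congrArg QuadraticAlgebra.im h1
    · apply Subtype.ext
      ext v
      rfl

end

/-! ### The conjugation is a power map -/

theorem card_le_of_pow {F : Type*} [Field F] [Fintype F] {q : ℕ} (hq1 : 1 < q) (h : ∀ x : F, x ^ q = x) :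
    Fintype.card F ≤ q := by
  classical
  have h5 := Polynomial.card_roots' (Polynomial.X ^ q - Polynomial.X : Polynomial F)
  rw [FiniteField.X_pow_card_sub_X_natDegree_eq F hq1] at h5
  have h6 : (Finset.univ : Finset F).val ≤ (Polynomial.X ^ q - Polynomial.X : Polynomial F).roots := by
    rw [Multiset.le_iff_subset Finset.univ.nodup]
    intro x _
    rw [Polynomial.mem_roots (FiniteField.X_pow_card_sub_X_ne_zero F hq1), Polynomial.IsRoot.def,
      Polynomial.eval_sub, Polynomial.eval_pow, Polynomial.eval_X, h x, sub_self]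
  have h7 := Multiset.card_le_card h6
  have h8 : Multiset.card (Finset.univ : Finset F).val = Fintype.card F := rfl
  omega

theorem card_QA {F : Type*} [Field F] [Finite F] (a b : F) : Nat.card (QuadraticAlgebra F a b) = Nat.card F ^ 2 := by
  rw [Nat.card_congr (QuadraticAlgebra.equivProd a b), Nat.card_prod, pow_two]

theorem star_eq_pow {F : Type*} [Field F] [Finite F] {c : F} [Fact (∀ r : F, r ^ 2 ≠ c + 0 * r)]
    (z : QuadraticAlgebra F c 0) : starRingEnd (QuadraticAlgebra F c 0) z = z ^ Nat.card F := by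
  classical
  have := Fintype.ofFinite F
  have hfE : Finite (QuadraticAlgebra F c 0) := Finite.of_equiv _ (QuadraticAlgebra.equivProd c 0).symm
  have := Fintype.ofFinite (QuadraticAlgebra F c 0)
  obtain ⟨p, hp⟩ := CharP.exists F
  have hpp : p.Prime := CharP.char_is_prime F p
  have : Fact p.Prime := ⟨hpp⟩
  obtain ⟨n, -, hn⟩ := FiniteField.card F p
  have hpE : CharP (QuadraticAlgebra F c 0) p :=
    charP_of_injective_algebraMap (algebraMap F (QuadraticAlgebra F c 0)).injective p
  have hcard : Nat.card F = p ^ (n : ℕ) := by rw [Nat.card_eq_fintype_card, hn]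
  have hq1 : 1 < Nat.card F := by
    rw [Nat.card_eq_fintype_card]
    exact Fintype.one_lt_card
  have hC : ∀ a : F, (algebraMap F (QuadraticAlgebra F c 0) a) ^ Nat.card F = algebraMap F _ a := by
    intro a
    rw [← map_pow, Nat.card_eq_fintype_card, FiniteField.pow_card]
  have hadd : ∀ x y : QuadraticAlgebra F c 0, (x + y) ^ Nat.card F = x ^ Nat.card F + y ^ Nat.card F := by
    intro x y
    rw [hcard]
    exact add_pow_char_pow x y p n
  have hz : ∀ z : QuadraticAlgebra F c 0, z = algebraMap F _ z.re + algebraMap F _ z.im * ⟨0, 1⟩ := by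
    intro z
    ext <;> simp
  have hpow : ∀ z : QuadraticAlgebra F c 0,
      z ^ Nat.card F = algebraMap F _ z.re + algebraMap F _ z.im * (⟨0, 1⟩ : QuadraticAlgebra F c 0) ^ Nat.card F := by
    intro z
    conv_lhs => rw [hz z]
    rw [hadd, mul_pow, hC, hC]
  have hω2 : (⟨0, 1⟩ : QuadraticAlgebra F c 0) * ⟨0, 1⟩ = algebraMap F _ c := by
    ext <;> simp
  have hω : (⟨0, 1⟩ : QuadraticAlgebra F c 0) ^ Nat.card F = -⟨0, 1⟩ := by
    have h1 : (⟨0, 1⟩ : QuadraticAlgebra F c 0) ^ Nat.card F * (⟨0, 1⟩ : QuadraticAlgebra F c 0) ^ Nat.card F =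
        ⟨0, 1⟩ * ⟨0, 1⟩ := by
      rw [← mul_pow, hω2, hC]
    rcases mul_self_eq_mul_self_iff.1 h1 with h2 | h2
    · exfalso
      have h3 : ∀ z : QuadraticAlgebra F c 0, z ^ Nat.card F = z := by
        intro z
        rw [hpow, h2, ← hz]
      have h4 := card_le_of_pow hq1 h3
      rw [← Nat.card_eq_fintype_card, card_QA] at h4
      nlinarith
    · exact h2
  rw [hpow, hω, starRingEnd_apply]
  ext <;> simp

section

variable {F V : Type*} [Field F] [Finite F] [AddCommGroup V] [Module F V] [FiniteDimensional F V]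
  {T : V ≃ₗ[F] V} {c : F}

/-- the quadratic extension is a field -/
theorem fact_of (h : ¬ IsSquare c) : Fact (∀ r : F, r ^ 2 ≠ c + 0 * r) :=
  ⟨fun r hr => h ⟨r, by rw [← pow_two, hr, zero_mul, add_zero]⟩⟩

theorem finite_ext [Module (QuadraticAlgebra F c 0) V] [Fact (∀ r : F, r ^ 2 ≠ c + 0 * r)] :
    FiniteDimensional (QuadraticAlgebra F c 0) V := by
  have : Finite V := Module.finite_of_finite F
  infer_instance

/-- **The general linear groups.** -/
theorem gl_le (h2 : (2 : F) ≠ 0) (hc : c ≠ 0) (hT : ∀ v, T (T v) = c • v) :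
    nc ↥(⊤ ⊓ centralizer ({T} : Set (V ≃ₗ[F] V))) ≤ 2 := by
  by_cases hsq : IsSquare c
  · obtain ⟨a, rfl⟩ := hsq
    have ha : a ≠ 0 := by
      rintro rfl
      exact hc (mul_zero 0)
    refine (gl_split h2 ha hT).trans ((add_le_add nc_gl nc_gl).trans ?_)
    norm_num
  · let _ := modE T hT
    have := fact_of hsq
    have : FiniteDimensional (QuadraticAlgebra F c 0) V := finite_ext
    refine (gl_ext (c := c) (T := T) (fun z v => rfl)).trans (nc_gl.trans ?_)
    norm_num

/-- **The symplectic groups.** -/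
theorem alt_le (h2 : (2 : F) ≠ 0) {B : V →ₗ[F] V →ₗ[F] F} (hA : ∀ x, B x x = 0) (hB : ND B) (hTB : T ∈ Is B)
    (hc : c = 1 ∨ c = -1) (hT : ∀ v, T (T v) = c • v) :
    nc ↥(Is B ⊓ centralizer ({T} : Set (V ≃ₗ[F] V))) ≤ 2 := by
  have hA' : LinearMap.BilinForm.IsAlt B := hA
  have hsk : ∀ x y, B x y = -B y x := fun x y => (LinearMap.BilinForm.IsAlt.neg_eq hA' y x).symm
  rcases hc with rfl | rfl
  · have h := is_split (σ := RingHom.id F) h2 hTB (a := 1) (by simp) (fun v => by rw [hT, mul_one])
    have hcp := isCompl_eg h2 (one_ne_zero) (T := T) (fun v => by rw [hT, mul_one])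
    have hne : (RingHom.id F) (-1) * (1 : F) ≠ 1 := by
      rw [RingHom.id_apply, mul_one]
      intro h3
      apply h2
      rw [← one_add_one_eq_two]
      nth_rewrite 1 [← h3]
      rw [neg_add_cancel]
    have hne' : (RingHom.id F) 1 * (-1 : F) ≠ 1 := by
      rw [RingHom.id_apply, one_mul]
      rwa [RingHom.id_apply, mul_one] at hne
    have n1 : ND (rB B (eg T 1)) := rB_nd hB hcp (fun x hx y hy => eg_orth hTB hne hx hy)
    have n2 : ND (rB B (eg T (-1))) := rB_nd hB hcp.symm (fun x hx y hy => eg_orth hTB hne' hx hy)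
    refine h.trans ((add_le_add (nc_alt (B := rB B (eg T 1)) h2 (fun x => hA x) n1)
      (nc_alt (B := rB B (eg T (-1))) h2 (fun x => hA x) n2)).trans ?_)
    norm_num
  · by_cases hsq : IsSquare (-1 : F)
    · obtain ⟨a, ha⟩ := hsq
      refine (is_isot (σ := RingHom.id F) h2 hB (ε := -1) (fun x y => ?_) hTB (a := a) ha.symm (fun v => ?_)).trans
        (nc_gl.trans (by norm_num))
      · rw [hsk, RingHom.id_apply, neg_one_mul]
      · rw [hT, ha]
    · let _ := modE T hT
      have := fact_of hsq
      have : FiniteDimensional (QuadraticAlgebra F (-1) 0) V := finite_ext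
      have : Finite (QuadraticAlgebra F (-1 : F) 0) :=
        Finite.of_equiv _ (QuadraticAlgebra.equivProd (-1 : F) 0).symm
      refine (is_ext (B := B) hTB hT (fun z v => rfl)).trans ((nc_herm (q := Nat.card F) (card_QA _ _)
        (fun z => star_eq_pow z) ?_ ?_).trans (by norm_num))
      · intro x y
        rw [hE_apply, hE_apply, starRingEnd_apply]
        ext
        · rw [QuadraticAlgebra.re_star, zero_mul, add_zero, hsk y (T x), skewT hTB hT, neg_neg]
        · rw [QuadraticAlgebra.im_star, hsk y x]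
      · intro y hy
        apply hB
        intro x
        exact congrArg QuadraticAlgebra.im (hy x)

/-- **The orthogonal groups.** -/
theorem symm_le (h2 : (2 : F) ≠ 0) {B : V →ₗ[F] V →ₗ[F] F} (hS : ∀ x y, B x y = B y x) (hB : ND B)
    (hTB : T ∈ Is B) (hc : c = 1 ∨ c = -1) (hT : ∀ v, T (T v) = c • v) :
    nc ↥(Is B ⊓ centralizer ({T} : Set (V ≃ₗ[F] V))) ≤ 4 := by
  rcases hc with rfl | rfl
  · have h := is_split (σ := RingHom.id F) h2 hTB (a := 1) (by simp) (fun v => by rw [hT, mul_one])
    have hcp := isCompl_eg h2 (one_ne_zero) (T := T) (fun v => by rw [hT, mul_one])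
    have hne : (RingHom.id F) (-1) * (1 : F) ≠ 1 := by
      rw [RingHom.id_apply, mul_one]
      intro h3
      apply h2
      rw [← one_add_one_eq_two]
      nth_rewrite 1 [← h3]
      rw [neg_add_cancel]
    have hne' : (RingHom.id F) 1 * (-1 : F) ≠ 1 := by
      rw [RingHom.id_apply, one_mul]
      rwa [RingHom.id_apply, mul_one] at hne
    have n1 : ND (rB B (eg T 1)) := rB_nd hB hcp (fun x hx y hy => eg_orth hTB hne hx hy)
    have n2 : ND (rB B (eg T (-1))) := rB_nd hB hcp.symm (fun x hx y hy => eg_orth hTB hne' hx hy)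
    refine h.trans ((add_le_add (nc_symm (B := rB B (eg T 1)) h2 (fun x y => hS x y) n1)
      (nc_symm (B := rB B (eg T (-1))) h2 (fun x y => hS x y) n2)).trans ?_)
    norm_num
  · by_cases hsq : IsSquare (-1 : F)
    · obtain ⟨a, ha⟩ := hsq
      refine (is_isot (σ := RingHom.id F) h2 hB (ε := 1) (fun x y => ?_) hTB (a := a) ha.symm (fun v => ?_)).trans
        (nc_gl.trans (by norm_num))
      · rw [hS, RingHom.id_apply, one_mul]
      · rw [hT, ha]
    · let _ := modE T hT
      have := fact_of hsq
      have : FiniteDimensional (QuadraticAlgebra F (-1) 0) V := finite_ext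
      have : Finite (QuadraticAlgebra F (-1 : F) 0) :=
        Finite.of_equiv _ (QuadraticAlgebra.equivProd (-1 : F) 0).symm
      have hI : Is (hE B T hTB hT (fun z v => rfl)) =
          Is ((⟨0, 1⟩ : QuadraticAlgebra F (-1) 0) • hE B T hTB hT (fun z v => rfl)) := by
        have hω : (⟨0, 1⟩ : QuadraticAlgebra F (-1) 0) ≠ 0 := by
          intro h
          exact one_ne_zero (congrArg QuadraticAlgebra.im h)
        ext g
        constructor
        · intro hg x y
          rw [LinearMap.smul_apply, LinearMap.smul_apply, LinearMap.smul_apply, LinearMap.smul_apply, hg x y]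
        · intro hg x y
          have h1 := hg x y
          rw [LinearMap.smul_apply, LinearMap.smul_apply, LinearMap.smul_apply, LinearMap.smul_apply, smul_eq_mul,
            smul_eq_mul] at h1
          exact mul_left_cancel₀ hω h1
      refine (is_ext (B := B) hTB hT (fun z v => rfl)).trans ?_
      rw [hI]
      refine (nc_herm (q := Nat.card F) (card_QA _ _)
        (fun z => star_eq_pow z) ?_ ?_).trans (by norm_num)
      · intro x y
        rw [LinearMap.smul_apply, LinearMap.smul_apply, LinearMap.smul_apply, LinearMap.smul_apply, smul_eq_mul,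
            smul_eq_mul, hE_apply, hE_apply, starRingEnd_apply]
        have h3 := skewT hTB hT x y
        rw [hS] at h3
        ext
        · simp
          rw [hS y x]
        · simp
          rw [h3]
      · intro y hy
        apply hB
        intro x
        have h1 := hy x
        rw [LinearMap.smul_apply, LinearMap.smul_apply, smul_eq_mul, hE_apply] at h1
        have h3 := congrArg QuadraticAlgebra.re h1
        simpa using h3

/-- **The unitary groups.** -/
theorem herm_le (h2 : (2 : F) ≠ 0) {σ : F →+* F} {q : ℕ} (hF : Nat.card F = q ^ 2) (hσ : ∀ x, σ x = x ^ q)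
    {B : V →ₛₗ[σ] V →ₗ[F] F} (hS : ∀ x y, σ (B x y) = B y x) (hB : ND B) (hTB : T ∈ Is B)
    (hc : σ c * c = 1) (hT : ∀ v, T (T v) = c • v) :
    nc ↥(Is B ⊓ centralizer ({T} : Set (V ≃ₗ[F] V))) ≤ 2 := by
  classical
  have := Fintype.ofFinite F
  have hF' : Fintype.card F = q ^ 2 := by rw [← Nat.card_eq_fintype_card, hF]
  have hch : ringChar F ≠ 2 := by
    intro h
    apply h2
    have h3 : ((ringChar F : ℕ) : F) = 0 := ringChar.Nat.cast_ringChar
    rw [h] at h3
    exact_mod_cast h3
  have hodd : Odd q := by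
    have h3 := FiniteField.odd_card_of_char_ne_two hch
    rw [hF', Nat.pow_mod] at h3
    rw [Nat.odd_iff]
    by_contra h4
    have h5 : q % 2 = 0 := by omega
    rw [h5] at h3
    norm_num at h3
  have hc0 : c ≠ 0 := by
    rintro rfl
    rw [mul_zero] at hc
    exact zero_ne_one hc
  have hsq : IsSquare c := by
    rw [FiniteField.isSquare_iff hch hc0, hF']
    obtain ⟨k, rfl⟩ := hodd
    have h3 : (2 * k + 1) ^ 2 / 2 = (2 * k + 1 + 1) * k := by
      have h4 : (2 * k + 1) ^ 2 = 2 * ((2 * k + 1 + 1) * k) + 1 := by ring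
      omega
    rw [h3, pow_mul, pow_succ, ← hσ, hc, one_pow]
  obtain ⟨a, rfl⟩ := hsq
  have h3 : (σ a * a) * (σ a * a) = 1 := by
    rw [map_mul] at hc
    rw [← hc]
    ring
  rcases mul_self_eq_one_iff.1 h3 with h4 | h4
  · have ha0 : a ≠ 0 := by
      rintro rfl
      exact hc0 (mul_zero 0)
    have h := is_split h2 hTB h4 hT
    have hcp := isCompl_eg h2 ha0 hT
    have hne : σ (-a) * a ≠ 1 := by
      rw [map_neg, neg_mul, h4]
      intro h5
      apply h2
      rw [← one_add_one_eq_two]
      nth_rewrite 1 [← h5]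
      rw [neg_add_cancel]
    have hne' : σ a * (-a) ≠ 1 := by
      rwa [mul_neg, ← neg_mul, ← map_neg]
    have n1 : ND (rB B (eg T a)) := rB_nd hB hcp (fun x hx y hy => eg_orth hTB hne hx hy)
    have n2 : ND (rB B (eg T (-a))) := rB_nd hB hcp.symm (fun x hx y hy => eg_orth hTB hne' hx hy)
    refine h.trans ((add_le_add (nc_herm (B := rB B (eg T a)) hF hσ (fun x y => hS x y) n1)
      (nc_herm (B := rB B (eg T (-a))) hF hσ (fun x y => hS x y) n2)).trans ?_)
    norm_num
  · refine (is_isot h2 hB (ε := 1) (fun x y => ?_) hTB h4 hT).trans (nc_gl.trans (by norm_num))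
    rw [one_mul, hS]

end

end Cfsg.Agent.H65.CN
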