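import Mathlib
import Cfsg.Prelude.Def_LieTypeChar
import Cfsg.Agent.H65.CN.Ext
import Cfsg.Agent.FooteOdd.PSU
import Cfsg.Agent.ClassicalGeometry.PSUAutBasic
import Cfsg.Agent.ClassicalGeometry.SympInvolutions
import Cfsg.Agent.GenOrth.Main
import Cfsg.Agent.LieClassical.OrthForms

/-!
# The number of components of the centralisers of involutions in the classical groups of odd characteristic (helper65)

* `lin`, `unitary`, `sympl` : at most 2;
* `orthOdd`, `orthPlus`, `orthMinus` : at most 4.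
-/

set_option autoImplicit false
set_option linter.unusedSectionVars false

open Cfsg Subgroup Module

namespace Cfsg.Agent.H65.CN

theorem two_ne {F : Type*} [Field F] {p : ℕ} [CharP F p] (hp : p.Prime) (hp2 : p ≠ 2) : (2 : F) ≠ 0 := by
  intro h
  have h1 : ((2 : ℕ) : F) = 0 := by exact_mod_cast h
  rw [CharP.cast_eq_zero_iff F p] at h1
  exact hp2 ((Nat.prime_dvd_prime_iff_eq hp Nat.prime_two).1 h1)

section

variable {S I G : Type*} [Group S] [Group I] [Group G]

/-- the reduction for an injective homomorphism with normal image -/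
theorem nc_cent_le (τ : S →* I) (hτ : Function.Injective τ) (hn : τ.range.Normal) (φ : S →* G)
    (hφ : Function.Surjective φ) (hk : φ.ker ≤ center S) (s : S) :
    nc ↥(centralizer ({φ s} : Set G)) ≤ nc ↥(centralizer ({τ s} : Set I)) := by
  let e : S ≃* ↥τ.range := MulEquiv.ofBijective τ.rangeRestrict
    ⟨fun a b h => hτ (congrArg Subtype.val h), τ.rangeRestrict_surjective⟩
  have he : ∀ a, ((e a : ↥τ.range) : I) = τ a := fun _ => rfl
  have h1 := nc_centralizer_le (X := τ.range) (φ.comp e.symm.toMonoidHom) (hφ.comp e.symm.surjective) (by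
    intro x hx
    rw [mem_center_iff]
    intro y
    apply e.symm.injective
    have h3 : e.symm x ∈ center S := hk hx
    rw [map_mul, map_mul, mem_center_iff.1 h3]) (e s)
  have h2 : (φ.comp e.symm.toMonoidHom) (e s) = φ s := congrArg φ (e.symm_apply_apply s)
  rw [h2, he] at h1
  exact h1

/-- the centraliser in a subgroup -/
theorem nc_cent_sub (X : Subgroup I) (T : ↥X) :
    nc ↥(centralizer ({T} : Set ↥X)) ≤ nc ↥(X ⊓ centralizer ({(T : I)} : Set I)) := by
  let f : ↥(centralizer ({T} : Set ↥X)) →* ↥(X ⊓ centralizer ({(T : I)} : Set I)) :=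
    { toFun := fun g => ⟨g.1.1, g.1.2, mem_centralizer_singleton_iff.2
        (congrArg Subtype.val (mem_centralizer_singleton_iff.1 g.2))⟩
      map_one' := rfl
      map_mul' := fun _ _ => rfl }
  refine nc_le_of_bij f ?_ ?_
  · intro a b h
    apply Subtype.ext
    apply Subtype.ext
    exact congrArg (fun z : ↥(X ⊓ centralizer ({(T : I)} : Set I)) => (z : I)) h
  · intro g
    exact ⟨⟨⟨g.1, g.2.1⟩, mem_centralizer_singleton_iff.2
      (Subtype.ext (mem_centralizer_singleton_iff.1 g.2.2))⟩, rfl⟩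

/-- the square of the lift is central -/
theorem sq_mem (φ : S →* G) (hk : φ.ker ≤ center S) {s : S} {t : G} (hs : φ s = t) (ht : orderOf t = 2) :
    s * s ∈ center S := by
  apply hk
  rw [MonoidHom.mem_ker, map_mul, hs, ← pow_two, ← ht, pow_orderOf_eq_one]

theorem ncard_le_of [Finite G] {t : G} {k : ℕ} (h : nc ↥(centralizer ({t} : Set G)) ≤ k) :
    {K : Subgroup ↥(centralizer ({t} : Set G)) | IsComponent K}.ncard ≤ k := ncard_le h

end

/-! ### Linear groups -/

theorem nc_lin {p : ℕ} (hp : p.Prime) (hp2 : p ≠ 2) {G : Type*} [Group G] (h : IsPSLChar p G) (t : G)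
    (ht : orderOf t = 2) : nc ↥(centralizer ({t} : Set G)) ≤ 2 := by
  obtain ⟨F, _, _, _, n, hn, -, ⟨e⟩⟩ := h
  have h2 : (2 : F) ≠ 0 := two_ne hp hp2
  let φ : Matrix.SpecialLinearGroup (Fin n) F →* G := e.symm.toMonoidHom.comp (QuotientGroup.mk' _)
  have hφ : Function.Surjective φ := e.symm.surjective.comp (QuotientGroup.mk'_surjective _)
  have hk : φ.ker ≤ center (Matrix.SpecialLinearGroup (Fin n) F) := by
    intro x hx
    rw [← QuotientGroup.eq_one_iff]
    exact e.symm.injective ((MonoidHom.mem_ker.1 hx).trans (map_one e.symm).symm)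
  obtain ⟨s, rfl⟩ := hφ t
  have hss := sq_mem φ hk rfl ht
  obtain ⟨r, hr, hr'⟩ := Matrix.SpecialLinearGroup.mem_center_iff.1 hss
  have hr0 : r ≠ 0 := by
    rintro rfl
    rw [Fintype.card_fin, zero_pow (by omega)] at hr
    exact zero_ne_one hr
  let τ := slV (LinearEquiv.refl F (Fin n → F))
  have hrange : τ.range = (LinearEquiv.det : ((Fin n → F) ≃ₗ[F] (Fin n → F)) →* Fˣ).ker := by
    ext g
    rw [MonoidHom.mem_ker]
    constructor
    · rintro ⟨M, rfl⟩
      exact det_slV _ M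
    · intro hg
      exact exists_slV _ hg
  have h1 := nc_cent_le τ (slV_injective _) (by rw [hrange]; infer_instance) φ hφ hk s
  have h3 := gl_le (T := τ s) h2 hr0 (by
    intro v
    have h4 : τ s (τ s v) = (((s * s : Matrix.SpecialLinearGroup (Fin n) F)) : Matrix (Fin n) (Fin n) F).mulVec v := by
      rw [slV_apply, slV_apply]
      change (s : Matrix (Fin n) (Fin n) F).mulVec ((s : Matrix (Fin n) (Fin n) F).mulVec v) = _
      rw [Matrix.mulVec_mulVec]
      rfl
    rw [h4, ← hr', Matrix.scalar_apply]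
    ext i
    rw [Matrix.mulVec_diagonal]
    rfl)
  rw [top_inf_eq] at h3
  exact h1.trans h3

/-- **Linear groups.** -/
theorem lin {p : ℕ} (hp : p.Prime) (hp2 : p ≠ 2) {G : Type*} [Group G] [Finite G] (h : IsPSLChar p G) (t : G)
    (ht : orderOf t = 2) : {K : Subgroup ↥(centralizer ({t} : Set G)) | IsComponent K}.ncard ≤ 2 :=
  ncard_le_of (nc_lin hp hp2 h t ht)

/-! ### Symplectic groups -/

theorem nc_sympl {p : ℕ} (hp : p.Prime) (hp2 : p ≠ 2) {G : Type*} [Group G] (h : IsPSpChar p G) (t : G)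
    (ht : orderOf t = 2) : nc ↥(centralizer ({t} : Set G)) ≤ 2 := by
  obtain ⟨F, _, _, _, m, -, -, ⟨e⟩⟩ := h
  have h2 : (2 : F) ≠ 0 := two_ne hp hp2
  let φ : ↥(Matrix.symplecticGroup (Fin m) F) →* G := e.symm.toMonoidHom.comp (QuotientGroup.mk' _)
  have hφ : Function.Surjective φ := e.symm.surjective.comp (QuotientGroup.mk'_surjective _)
  have hk : φ.ker ≤ center ↥(Matrix.symplecticGroup (Fin m) F) := by
    intro x hx
    rw [← QuotientGroup.eq_one_iff]
    exact e.symm.injective ((MonoidHom.mem_ker.1 hx).trans (map_one e.symm).symm)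
  obtain ⟨s, rfl⟩ := hφ t
  have hss := sq_mem φ hk rfl ht
  let B := ClassicalGeometry.SympBasic.sympBilin m F
  let e0 : (Fin m ⊕ Fin m → F) ≃ₗ[F] (Fin m ⊕ Fin m → F) := LinearEquiv.refl F _
  have he0 : ∀ x y, B (e0 x) (e0 y) = sympForm m F x y := fun x y => rfl
  let τ : ↥(Matrix.symplecticGroup (Fin m) F) →* ↥(Is B) := spHom e0 he0
  have hτ := spHom_bijective e0 he0
  have h1 := nc_cent_le τ hτ.1 (by rw [MonoidHom.range_eq_top.2 hτ.2]; infer_instance) φ hφ hk s
  have hc : ∃ c : F, (c = 1 ∨ c = -1) ∧ ∀ v, (s : Matrix (Fin m ⊕ Fin m) (Fin m ⊕ Fin m) F).mulVec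
      ((s : Matrix (Fin m ⊕ Fin m) (Fin m ⊕ Fin m) F).mulVec v) = c • v := by
    rcases ClassicalGeometry.SympInvolutions.center_eq hss with h4 | h4
    · refine ⟨1, Or.inl rfl, fun v => ?_⟩
      rw [Matrix.mulVec_mulVec]
      change (((s * s : ↥(Matrix.symplecticGroup (Fin m) F))) : Matrix (Fin m ⊕ Fin m) (Fin m ⊕ Fin m) F).mulVec v = _
      rw [h4, Matrix.one_mulVec, one_smul]
    · refine ⟨-1, Or.inr rfl, fun v => ?_⟩
      rw [Matrix.mulVec_mulVec]
      change (((s * s : ↥(Matrix.symplecticGroup (Fin m) F))) : Matrix (Fin m ⊕ Fin m) (Fin m ⊕ Fin m) F).mulVec v = _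
      rw [h4, Matrix.neg_mulVec, Matrix.one_mulVec, neg_smul, one_smul]
  obtain ⟨c, hc, hc'⟩ := hc
  have h3 := alt_le (T := (τ s).1) (B := B) h2
    (fun x => ClassicalGeometry.SympBasic.sympForm_self x)
    (fun y hy => ClassicalGeometry.SympBasic.sympBilin_nondegenerate.2 y hy) (τ s).2 hc hc'
  exact h1.trans ((nc_cent_sub (Is B) (τ s)).trans h3)

/-- **Symplectic groups.** -/
theorem sympl {p : ℕ} (hp : p.Prime) (hp2 : p ≠ 2) {G : Type*} [Group G] [Finite G] (h : IsPSpChar p G) (t : G)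
    (ht : orderOf t = 2) : {K : Subgroup ↥(centralizer ({t} : Set G)) | IsComponent K}.ncard ≤ 2 :=
  ncard_le_of (nc_sympl hp hp2 h t ht)

/-! ### Unitary groups -/

theorem nc_unitary {p : ℕ} (hp : p.Prime) (hp2 : p ≠ 2) {G : Type*} [Group G] (h : IsPSUChar p G) (t : G)
    (ht : orderOf t = 2) : nc ↥(centralizer ({t} : Set G)) ≤ 2 := by
  obtain ⟨F, _, _, _, n, q, hF, hn, -, ⟨e⟩⟩ := h
  have h2 : (2 : F) ≠ 0 := two_ne hp hp2
  let φ : ↥(SU n F q) →* G := e.symm.toMonoidHom.comp (QuotientGroup.mk' _)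
  have hφ : Function.Surjective φ := e.symm.surjective.comp (QuotientGroup.mk'_surjective _)
  have hk : φ.ker ≤ center ↥(SU n F q) := by
    intro x hx
    rw [← QuotientGroup.eq_one_iff]
    exact e.symm.injective ((MonoidHom.mem_ker.1 hx).trans (map_one e.symm).symm)
  obtain ⟨s, rfl⟩ := hφ t
  have hss := sq_mem φ hk rfl ht
  obtain ⟨c, hc0, hc, hc'⟩ := ClassicalGeometry.PSUAutBasic.exists_scalar_of_mem_center hF hn hss
  let B := FooteOdd.hB hF (Fin n)
  have hB : ∀ x y, B x y = hermForm n F q y x := by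
    intro x y
    rw [FooteOdd.hB_apply]
    refine Finset.sum_congr rfl fun i _ => ?_
    rw [LieClassical.GUOrder.frob_apply, mul_comm]
  let e0 := LinearEquiv.refl F (Fin n → F)
  let τ : ↥(SU n F q) →* ↥(Is B) := ((slV e0).comp (SU n F q).subtype).codRestrict (Is B) (by
    intro M x y
    rw [hB, hB]
    exact M.2 y x)
  have hτa : ∀ (M : ↥(SU n F q)) (v : Fin n → F),
      (τ M).1 v = ((M : Matrix.SpecialLinearGroup (Fin n) F) : Matrix (Fin n) (Fin n) F).mulVec v := fun _ _ => rfl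
  have hτ : Function.Injective τ := by
    intro M N hMN
    apply Subtype.ext
    apply slV_injective e0
    exact congrArg Subtype.val hMN
  have hrange : τ.range = ((LinearEquiv.det : ((Fin n → F) ≃ₗ[F] (Fin n → F)) →* Fˣ).comp (Is B).subtype).ker := by
    ext g
    rw [MonoidHom.mem_ker]
    constructor
    · rintro ⟨M, rfl⟩
      exact det_slV e0 M
    · intro hg
      obtain ⟨M, hM⟩ := exists_slV e0 hg
      refine ⟨⟨M, ?_⟩, Subtype.ext hM⟩
      intro u v
      have h4 := g.2 v u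
      rw [hB, hB] at h4
      have h5 : ∀ w, g.1 w = (M : Matrix (Fin n) (Fin n) F).mulVec w := by
        intro w
        change (Is B).subtype g w = _
        rw [← hM]
        rfl
      rw [h5, h5] at h4
      exact h4
  have h1 := nc_cent_le τ hτ (by rw [hrange]; infer_instance) φ hφ hk s
  have h3 := herm_le (T := (τ s).1) (B := B) (c := c) h2 (by rw [Nat.card_eq_fintype_card, hF])
    (LieClassical.GUOrder.frob_apply hF) (FooteOdd.hB_symm hF)
    (fun y hy => FooteOdd.hB_nondeg hF hy) (τ s).2 (by rw [LieClassical.GUOrder.frob_apply, mul_comm, hc]) (by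
      intro v
      rw [hτa, hτa, Matrix.mulVec_mulVec]
      exact hc' v)
  exact h1.trans ((nc_cent_sub (Is B) (τ s)).trans h3)

/-- **Unitary groups.** -/
theorem unitary {p : ℕ} (hp : p.Prime) (hp2 : p ≠ 2) {G : Type*} [Group G] [Finite G] (h : IsPSUChar p G) (t : G)
    (ht : orderOf t = 2) : {K : Subgroup ↥(centralizer ({t} : Set G)) | IsComponent K}.ncard ≤ 2 :=
  ncard_le_of (nc_unitary hp hp2 h t ht)

/-! ### Orthogonal groups -/

open LieClassical.OrthCore LieClassical.OrthTrans LieClassical.OrthSimple TitsThree.KSideO in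
theorem nc_orth {F : Type} [Field F] [Fintype F] {ι : Type} [Fintype ι] [DecidableEq ι]
    {Q : QuadraticForm F (ι → F)} (h2 : (2 : F) ≠ 0) (hG : Good Q) {G : Type*} [Group G]
    (e : G ≃* Cfsg.POmega F ⇑Q) (t : G) (ht : orderOf t = 2) : nc ↥(centralizer ({t} : Set G)) ≤ 4 := by
  let φ : ↥(E Q) →* G := GenOrth.proj hG e
  have hφ : Function.Surjective φ := GenOrth.proj_surjective hG e
  have hk : φ.ker ≤ center ↥(E Q) := fun x hx => GenOrth.center_of_proj hG e hx
  obtain ⟨s, rfl⟩ := hφ t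
  have hs1 : φ (s * s) = 1 := by rw [map_mul, ← pow_two, ← ht, pow_orderOf_eq_one]
  obtain ⟨c, hc, hc'⟩ := GenOrth.scalar_of_proj hG e hs1
  let B : (ι → F) →ₗ[F] (ι → F) →ₗ[F] F := QuadraticMap.polarBilin Q
  have hB : ∀ x y, B x y = QuadraticMap.polar Q x y := fun _ _ => rfl
  have hI : Is B = O Q := by
    ext g
    constructor
    · intro hg x
      have h1 := hg x x
      rw [hB, hB, polar_self', polar_self'] at h1
      exact mul_left_cancel₀ h2 h1
    · intro hg x y
      exact polar_map hg x y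
  let τ : ↥(E Q) →* ↥(Is B) := inclusion (by rw [hI]; exact E_le_O)
  have hn : τ.range.Normal := by
    constructor
    rintro _ ⟨x, rfl⟩ g
    exact ⟨⟨g * x * g⁻¹, conj_mem_E (by rw [← hI]; exact g.2) x.2⟩, rfl⟩
  have h1 := nc_cent_le τ (inclusion_injective _) hn φ hφ hk s
  have h3 := symm_le (T := (τ s).1) (B := B) h2 (fun x y => by rw [hB, hB, QuadraticMap.polar_comm]) (by
    intro y hy
    apply hG.nondeg
    intro x
    rw [QuadraticMap.polar_comm]
    exact hy x) (τ s).2 hc (fun v => hc' v)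
  exact h1.trans ((nc_cent_sub (Is B) (τ s)).trans h3)

theorem nc_orthOdd {p : ℕ} (hp : p.Prime) (hp2 : p ≠ 2) {G : Type*} [Group G] (h : IsPOmegaOddChar p G) (t : G)
    (ht : orderOf t = 2) : nc ↥(centralizer ({t} : Set G)) ≤ 4 := by
  obtain ⟨F, _, _, _, m, hm, -, ⟨e⟩⟩ := h
  have h2 : (2 : F) ≠ 0 := two_ne hp hp2
  have hG := LieClassical.OrthFinite.good_of_finite (LieClassical.OrthForms.nondeg_oddForm m F h2) (by
    rw [finrank_fintype_fun_eq_card]
    simp
    omega)
  have he : Cfsg.POmega F (quadFormOdd m F) = Cfsg.POmega F ⇑(LieClassical.OrthForms.oddForm m F) := by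
    rw [LieClassical.OrthForms.coe_oddForm]
  exact nc_orth h2 hG (by rw [LieClassical.OrthForms.coe_oddForm]; exact e) t ht

theorem nc_orthPlus {p : ℕ} (hp : p.Prime) (hp2 : p ≠ 2) {G : Type*} [Group G] (h : IsPOmegaPlusChar p G) (t : G)
    (ht : orderOf t = 2) : nc ↥(centralizer ({t} : Set G)) ≤ 4 := by
  obtain ⟨F, _, _, _, m, hm, ⟨e⟩⟩ := h
  have h2 : (2 : F) ≠ 0 := two_ne hp hp2
  have hG := LieClassical.OrthFinite.good_of_finite (LieClassical.OrthForms.nondeg_plusForm m F) (by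
    rw [finrank_fintype_fun_eq_card]
    simp
    omega)
  exact nc_orth h2 hG (by rw [LieClassical.OrthForms.coe_plusForm]; exact e) t ht

theorem nc_orthMinus {p : ℕ} (hp : p.Prime) (hp2 : p ≠ 2) {G : Type*} [Group G] (h : IsPOmegaMinusChar p G) (t : G)
    (ht : orderOf t = 2) : nc ↥(centralizer ({t} : Set G)) ≤ 4 := by
  obtain ⟨F, _, _, _, m, a, b, hm, hab, ⟨e⟩⟩ := h
  have h2 : (2 : F) ≠ 0 := two_ne hp hp2
  have hG := LieClassical.OrthFinite.good_of_finite (LieClassical.OrthForms.nondeg_minusForm (m - 1) F a b hab) (by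
    rw [finrank_fintype_fun_eq_card]
    simp
    omega)
  exact nc_orth h2 hG (by rw [LieClassical.OrthForms.coe_minusForm]; exact e) t ht

/-- **Orthogonal groups.** -/
theorem orthOdd {p : ℕ} (hp : p.Prime) (hp2 : p ≠ 2) {G : Type*} [Group G] [Finite G] (h : IsPOmegaOddChar p G)
    (t : G) (ht : orderOf t = 2) : {K : Subgroup ↥(centralizer ({t} : Set G)) | IsComponent K}.ncard ≤ 4 :=
  ncard_le_of (nc_orthOdd hp hp2 h t ht)

theorem orthPlus {p : ℕ} (hp : p.Prime) (hp2 : p ≠ 2) {G : Type*} [Group G] [Finite G] (h : IsPOmegaPlusChar p G)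
    (t : G) (ht : orderOf t = 2) : {K : Subgroup ↥(centralizer ({t} : Set G)) | IsComponent K}.ncard ≤ 4 :=
  ncard_le_of (nc_orthPlus hp hp2 h t ht)

theorem orthMinus {p : ℕ} (hp : p.Prime) (hp2 : p ≠ 2) {G : Type*} [Group G] [Finite G] (h : IsPOmegaMinusChar p G)
    (t : G) (ht : orderOf t = 2) : {K : Subgroup ↥(centralizer ({t} : Set G)) | IsComponent K}.ncard ≤ 4 :=
  ncard_le_of (nc_orthMinus hp hp2 h t ht)

/-- **All classical groups.** -/
theorem classical {p : ℕ} (hp : p.Prime) (hp2 : p ≠ 2) {G : Type*} [Group G] [Finite G]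
    (h : IsPSLChar p G ∨ IsPSpChar p G ∨ IsPSUChar p G ∨ IsPOmegaOddChar p G ∨ IsPOmegaPlusChar p G ∨
      IsPOmegaMinusChar p G)
    (t : G) (ht : orderOf t = 2) : {K : Subgroup ↥(centralizer ({t} : Set G)) | IsComponent K}.ncard ≤ 4 := by
  rcases h with h | h | h | h | h | h
  · exact (lin hp hp2 h t ht).trans (by norm_num)
  · exact (sympl hp hp2 h t ht).trans (by norm_num)
  · exact (unitary hp hp2 h t ht).trans (by norm_num)
  · exact orthOdd hp hp2 h t ht
  · exact orthPlus hp hp2 h t ht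
  · exact orthMinus hp hp2 h t ht

end Cfsg.Agent.H65.CN
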